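import Groth.Agent.Sga4h.H556.Glue
import Groth.Agent.Sga4h.EtaleRes

/-!
# Excision for cohomology with supports along étale morphisms
-/

set_option autoImplicit false
universe w w' v v' u u'
open CategoryTheory CategoryTheory.Limits AlgebraicGeometry Opposite Abelian
open Groth.Agent.Sga4B.DualShape Groth.Agent.EtpbcA Groth.Agent.Sga4B.DiagB
open scoped Groth.Agent.Etcore.EtInst
open Groth.Agent.Etcore.EtInst

namespace Groth.Agent.Sga4h.H556.Exc

open Groth.Agent.Sga4B Groth.Agent.Etcore Groth.Agent.Sga4h.H556.Supp Groth.Agent.Sga4h.H556.Glue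
open Groth.Agent.Etcore.PullCoh (toTop_ext res_comp res_id map_res eta_map map_comp_app)

section Abs

variable {C : Type u} [Category.{v} C] [Abelian C] [HasExt.{w} C] [EnoughInjectives C]
variable {D : Type u'} [Category.{v'} D] [Abelian D] [HasExt.{w'} D] [EnoughInjectives D]
variable {L : C ⥤ D} {R : D ⥤ C} [L.Additive] [PreservesFiniteLimits L] [PreservesFiniteColimits L]
  [R.Additive] [PreservesFiniteLimits R] [PreservesFiniteColimits R] (adj : L ⊣ R)

omit [EnoughInjectives C] in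
/-- precomposition with an isomorphism is bijective on `Ext` -/
theorem bijective_precomp {A B : C} (f : A ⟶ B) [IsIso f] (F : C) (n : ℕ) :
    Function.Bijective (fun e : Ext.{w} B F n => (Ext.mk₀ f).comp e (zero_add n)) := by
  refine Function.bijective_iff_has_inverse.2
    ⟨fun e => (Ext.mk₀ (inv f)).comp e (zero_add n), fun e => ?_, fun e => ?_⟩
  · simp
  · simp

omit [EnoughInjectives C] in
/-- postcomposition with an isomorphism is bijective on `Ext` -/
theorem bijective_postcomp (A : C) {F G : C} (f : F ⟶ G) [IsIso f] (n : ℕ) :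
    Function.Bijective (fun e : Ext.{w} A F n => e.comp (Ext.mk₀ f) (add_zero n)) := by
  refine Function.bijective_iff_has_inverse.2
    ⟨fun e => e.comp (Ext.mk₀ (inv f)) (add_zero n), fun e => ?_, fun e => ?_⟩
  · simp
  · simp

include adj in
/-- The comparison map `Ext B F n → Ext A (R F) n` is bijective in all degrees if it is so in degree
zero for all `F`, when the exact functor `R` has an exact left adjoint. -/
theorem bijective_cmp {A : C} {B : D} (a : A ⟶ R.obj B)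
    (h : ∀ F : D, Function.Bijective (fun φ : B ⟶ F => a ≫ R.map φ)) (F : D) (n : ℕ) :
    Function.Bijective (ExtCmp.cmp R a F n) := by
  let b : L.obj A ⟶ B := (adj.homEquiv A B).symm a
  have hb : adj.homEquiv A B b = a := (adj.homEquiv A B).apply_symm_apply a
  have hiso : IsIso b := by
    rw [isIso_iff_coyoneda_map_bijective]
    intro T
    have h1 := h T
    have h2 : (fun φ : B ⟶ T => a ≫ R.map φ) = (adj.homEquiv A T) ∘ (fun φ : B ⟶ T => b ≫ φ) := by
      ext φ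
      rw [Function.comp_apply, adj.homEquiv_naturality_right, hb]
    rw [h2] at h1
    exact (Function.Bijective.of_comp_iff' (adj.homEquiv A T).bijective _).1 h1
  have h3 : ⇑(ExtCmp.cmp R a F n) = ⇑(ExtAdj.extAdj adj A F n) ∘
      (fun e : Ext.{w'} B F n => (Ext.mk₀ b).comp e (zero_add n)) := by
    ext e
    rw [Adjunction.homEquiv_unit] at hb
    rw [Function.comp_apply, ExtAdj.extAdj_apply, ExtCmp.cmp_apply, Ext.mapExactFunctor_comp,
      Ext.mapExactFunctor_mk₀, Ext.mk₀_comp_mk₀_assoc, hb]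
  rw [h3]
  exact (ExtAdj.extAdj adj A F n).bijective.comp (bijective_precomp b F n)

end Abs

noncomputable section

variable {V Y : Scheme.{u}}

/-- The restriction of a global section. -/
def us (g : V ⟶ Y) (F : EtCoh.Ab Y) (s : EtCoh.sect F (EtCoh.top Y)) :
    EtCoh.sect ((EtCoh.pull g).obj F) (EtCoh.top V) :=
  ((EtCoh.pull g).obj F).obj.map (EtCore.bcTopIso g).inv.op (PullCoh.eta g F (EtCoh.top Y) s)

theorem one_pull (g : V ⟶ Y) {F : EtCoh.Ab Y} (ψ : EtCoh.const Y ℤ ⟶ F) :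
    one ((EtCore.pullConst g ℤ).inv ≫ (EtCoh.pull g).map ψ) = us g F (one ψ) := by
  have h1 : PullCoh.cst V ℤ ⟨1⟩ = (EtCoh.const V ℤ).obj.map (EtCore.bcTopIso g).inv.op
      ((EtCoh.const V ℤ).obj.map (toTop ((EtCoh.bc g).obj (EtCoh.top Y))).op
        (PullCoh.cst V ℤ ⟨1⟩)) := by
    rw [← res_comp, toTop_ext ((EtCore.bcTopIso g).inv ≫ toTop _) (𝟙 _), res_id]
  rw [one, h1, map_res, map_comp_app, pullConst_inv_res, eta_map]
  rfl

section Etale

variable (w : V ⟶ Y) [Etale w] [EtShriek.JCont w]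

/-- The adjunction `w_! ⊣ w^*`. -/
def adjw : EtShriek.extZero w ⊣ EtCoh.pull w :=
  (EtShriek.extZeroAdj w).ofNatIsoRight (EtaleRes.pullIsoRestr w).symm

/-- sections of `w^* F` are sections of `F` -/
def rw' (F : EtCoh.Ab Y) (T : V.Etale) : EtCoh.sect ((EtCoh.pull w).obj F) T →+
    EtCoh.sect F ((EtShriek.compEtale w).obj T) :=
  (((EtaleRes.pullIsoRestr w).hom.app F).hom.app (op T)).hom

theorem rw'_bijective (F : EtCoh.Ab Y) (T : V.Etale) : Function.Bijective (rw' w F T) := by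
  have hiso : IsIso (((EtaleRes.pullIsoRestr w).hom.app F).hom.app (op T)) :=
    inferInstanceAs (IsIso (((sheafToPresheaf _ _).map ((EtaleRes.pullIsoRestr w).hom.app F)).app _))
  exact ConcreteCategory.bijective_of_isIso _

theorem rw'_res (F : EtCoh.Ab Y) {T T' : V.Etale} (g : T' ⟶ T)
    (s : EtCoh.sect ((EtCoh.pull w).obj F) T) :
    rw' w F T' (((EtCoh.pull w).obj F).obj.map g.op s) =
      F.obj.map ((EtShriek.compEtale w).map g).op (rw' w F T s) :=
  map_res ((EtaleRes.pullIsoRestr w).hom.app F) g s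

theorem rw'_eta (F : EtCoh.Ab Y) (T : Y.Etale) (s : EtCoh.sect F T) :
    rw' w F ((EtCoh.bc w).obj T) (PullCoh.eta w F T s) =
      F.obj.map ((EtaleRes.compBcAdj w).counit.app T).op s := by
  have h := EtaleRes.unit_app_comp w F (op T)
  exact congrArg (fun k => k s) (congrArg (fun k => k.hom) h)

theorem rw'_us (F : EtCoh.Ab Y) (s : EtCoh.sect F (EtCoh.top Y)) :
    rw' w F (EtCoh.top V) (us w F s) =
      F.obj.map (toTop ((EtShriek.compEtale w).obj (EtCoh.top V))).op s := by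
  rw [us, rw'_res, rw'_eta, ← res_comp]
  exact congrArg (fun t => F.obj.map (Quiver.Hom.op t) s) (toTop_ext _ _)

end Etale

theorem exists_one {F : EtCoh.Ab Y} (t : EtCoh.sect F (EtCoh.top Y)) :
    ∃ φ : EtCoh.const Y ℤ ⟶ F, one φ = t := by
  obtain ⟨g, hg⟩ := (Ext.mk₀_bijective _ _).2 ((HpullCalc.H0 Y F).symm t)
  refine ⟨g, ?_⟩
  have h := HpullCalc.H0_mk₀ F g
  rw [hg, AddEquiv.apply_symm_apply, Adjunction.homEquiv_unit] at h
  exact h.symm

/-- `ExcCond` only depends on the isomorphism class. -/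
theorem ExcCond.of_iso {O : Y.Opens} {V V' : Y.Etale} (e : V ≅ V') (h : ExcCond O V) :
    ExcCond O V' where
  surj y hy := by
    obtain ⟨v, hv⟩ := h.surj y hy
    exact ⟨e.hom.left v, (Cover.hom_apply e.hom v).trans hv⟩
  inj T a b t ht := by
    obtain ⟨T', g, t', h1, h2⟩ := h.inj T (a ≫ e.inv) (b ≫ e.inv) t ht
    refine ⟨T', g, t', h1, ?_⟩
    rw [← cancel_mono e.inv, Category.assoc, Category.assoc, h2]

/-- `w_! (top V)` is `w : V ⟶ Y`. -/
def compTopIso (w : V ⟶ Y) [Etale w] :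
    Scheme.Etale.mk w ≅ (EtShriek.compEtale w).obj (EtCoh.top V) :=
  MorphismProperty.Over.isoMk (Iso.refl _) ((Category.id_comp _).trans (Category.id_comp w))

section Main

variable (w : V ⟶ Y) [Etale w] [EtShriek.JCont w] {O : Y.Opens}
  (hE : ExcCond O (Scheme.Etale.mk w))

theorem one_bq (F : EtCoh.Ab Y) (φ : ZQ O ⟶ F) :
    one (zπ (w ⁻¹ᵁ O) ≫ bq w (le_refl (w ⁻¹ᵁ O)) ≫ (EtCoh.pull w).map φ) =
      us w F (one (zπ O ≫ φ)) := by
  rw [← Category.assoc, zπ_bq, Category.assoc, ← Functor.map_comp, one_pull]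

theorem res_one_of (F : EtCoh.Ab Y) (φ : ZQ O ⟶ F) :
    F.obj.map (toTop (opE O)).op (one (zπ O ≫ φ)) = 0 :=
  (zin_comp_eq_zero_iff O (zπ O ≫ φ)).1 (by rw [← Category.assoc, zin_zπ, zero_comp])

include hE in
theorem bijective_hom (F : EtCoh.Ab Y) :
    Function.Bijective (fun φ : ZQ O ⟶ F =>
      bq w (le_refl (w ⁻¹ᵁ O)) ≫ (EtCoh.pull w).map φ) := by
  have hE' := ExcCond.of_iso (compTopIso w) hE
  constructor
  · intro φ ψ h
    have h1 : us w F (one (zπ O ≫ φ)) = us w F (one (zπ O ≫ ψ)) := by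
      rw [← one_bq, ← one_bq]
      exact congrArg (fun t => one (zπ (w ⁻¹ᵁ O) ≫ t)) h
    have h2 := congrArg (rw' w F (EtCoh.top V)) h1
    rw [rw'_us, rw'_us] at h2
    have h3 : one (zπ O ≫ φ) - one (zπ O ≫ ψ) = 0 := by
      refine eq_zero_of_res hE' F _ ?_ ?_
      · rw [map_sub, h2, sub_self]
      · rw [map_sub, res_one_of, res_one_of, sub_self]
    rw [← cancel_epi (zπ O)]
    exact one_ext (sub_eq_zero.1 h3)
  · intro ψ
    let s' := rw' w F (EtCoh.top V) (one (zπ (w ⁻¹ᵁ O) ≫ ψ))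
    have hs : ∀ (T : Y.Etale) (a : T ⟶ (EtShriek.compEtale w).obj (EtCoh.top V)),
        (∀ t, T.hom t ∈ O) → F.obj.map a.op s' = 0 := by
      refine fun T a hT => res_zero_of F s' _
        ((EtShriek.compEtale w).map (toTop (opE (w ⁻¹ᵁ O)))) ?_ ?_ T a hT
      · intro v hv
        refine ⟨(⟨v, ?_⟩ : ↥(w ⁻¹ᵁ O)), ?_⟩
        · exact hv
        · exact Cover.hom_apply (toTop (opE (w ⁻¹ᵁ O))) (⟨v, hv⟩ : ↥(w ⁻¹ᵁ O))
      · have h1 := rw'_res w F (toTop (opE (w ⁻¹ᵁ O))) (one (zπ (w ⁻¹ᵁ O) ≫ ψ))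
        refine h1.symm.trans ?_
        rw [(zin_comp_eq_zero_iff _ _).1 (by rw [← Category.assoc, zin_zπ, zero_comp] :
          zin (w ⁻¹ᵁ O) ≫ zπ (w ⁻¹ᵁ O) ≫ ψ = 0), map_zero]
    obtain ⟨t, ht1, ht2⟩ := exists_glue hE' F s' hs
    obtain ⟨φ₀, hφ₀⟩ := exists_one t
    refine ⟨desc O φ₀ (by rw [hφ₀, ht2]), ?_⟩
    change bq w (le_refl (w ⁻¹ᵁ O)) ≫ (EtCoh.pull w).map (desc O φ₀ _) = ψ
    rw [← cancel_epi (zπ (w ⁻¹ᵁ O))]
    refine one_ext ?_
    rw [one_bq, zπ_desc, hφ₀]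
    apply (rw'_bijective w F (EtCoh.top V)).1
    rw [rw'_us, ht1]

include hE in
/-- **Étale excision.** -/
theorem pl_bijective' {F : EtCoh.Ab Y} {F' : EtCoh.Ab V} (α : (EtCoh.pull w).obj F ⟶ F') [IsIso α]
    (m : ℕ) : Function.Bijective (pl w (le_refl (w ⁻¹ᵁ O)) α m) := by
  have i1 : PreservesFiniteLimits (EtShriek.extZero w) := inferInstance
  have h1 := bijective_cmp (adjw w) (bq w (le_refl (w ⁻¹ᵁ O))) (bijective_hom w hE) F m
  exact (bijective_postcomp (ZQ (w ⁻¹ᵁ O)) α m).comp h1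

end Main

/-- **Étale excision.** -/
theorem pl_bijective (w : V ⟶ Y) [Etale w] {O : Y.Opens} (hE : ExcCond O (Scheme.Etale.mk w))
    {F : EtCoh.Ab Y} {F' : EtCoh.Ab V} (α : (EtCoh.pull w).obj F ⟶ F') [IsIso α]
    (m : ℕ) : Function.Bijective (pl w (le_refl (w ⁻¹ᵁ O)) α m) :=
  have := EtaleRes.jCont w
  pl_bijective' w hE α m

/-- **Étale excision**, constant coefficients. -/
theorem plc_bijective (M : Type) [AddCommGroup M] (w : V ⟶ Y) [Etale w] {O : Y.Opens}
    (hE : ExcCond O (Scheme.Etale.mk w)) (m : ℕ) :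
    Function.Bijective (plc M w (le_refl (w ⁻¹ᵁ O)) m) :=
  pl_bijective w hE _ m

end

end Groth.Agent.Sga4h.H556.Exc
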