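import Groth.Agent.Sga4h.H556.MultA
import Mathlib.AlgebraicGeometry.Morphisms.QuasiFinite
import Groth.Agent.Desc.LQF

/-!
# Étale excision at a closed point of a scheme over an algebraically closed field
-/

set_option autoImplicit false
universe u
open CategoryTheory CategoryTheory.Limits AlgebraicGeometry Opposite Abelian
open Groth.Agent.Sga4B.DualShape Groth.Agent.EtpbcA Groth.Agent.Sga4B.DiagB
open scoped Groth.Agent.Etcore.EtInst
open Groth.Agent.Etcore.EtInst

namespace Groth.Agent.Sga4h.H556.ExcPt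

open Groth.Agent.Sga4B Groth.Agent.Etcore Groth.Agent.Sga4h.H556.Supp Groth.Agent.Sga4h.H556.Glue
open Groth.Agent.Sga4h.H556.Exc Groth.Agent.Sga4h.H556.Cl Groth.Agent.Sga4h.H556.Decomp
open Groth.Agent.Etcore.PullCoh (toTop_ext res_comp res_id map_res eta_map map_comp_app)

noncomputable section

variable {k : Type u} [Field k] {X Y V : Scheme.{u}}

theorem exists_rho {T : Scheme.{u}} (b : T ⟶ V) (t : T) (v : V) (h : b t = v) :
    ∃ ρ : Spec (T.residueField t) ⟶ Spec (V.residueField v),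
      ρ ≫ V.fromSpecResidueField v = T.fromSpecResidueField t ≫ b := by
  subst h
  exact ⟨Spec.map (b.residueFieldMap t), Scheme.Hom.SpecMap_residueFieldMap_fromSpecResidueField b t⟩

/-- Two morphisms over `Y` with the same value at a point, a `k`-rational point, agree on the
residue field. -/
theorem eq_on_residueField [IsAlgClosed k] (q : V ⟶ Spec (CommRingCat.of k)) [LocallyOfFiniteType q]
    {T : Scheme.{u}} (a b : T ⟶ V) (hab : a ≫ q = b ≫ q) (t : T) (v : V) (ha : a t = v)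
    (hb : b t = v) (hv : IsClosed {v}) :
    T.fromSpecResidueField t ≫ a = T.fromSpecResidueField t ≫ b := by
  obtain ⟨ρ, hρ⟩ := exists_rho a t v ha
  obtain ⟨ρ', hρ'⟩ := exists_rho b t v hb
  have h1 : IsIso (V.fromSpecResidueField v ≫ q) := by
    rw [← SpecMap_residueFieldIsoBase_inv q v hv]
    infer_instance
  have h2 : ρ = ρ' := by
    rw [← cancel_mono (V.fromSpecResidueField v ≫ q), reassoc_of% hρ, reassoc_of% hρ', hab]
  rw [← hρ, ← hρ', h2]

/-- Equalizers of morphisms to étale schemes: if `a`, `b` agree on the residue field of `t` they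
agree on a neighbourhood. -/
theorem exists_eq_nbhd' {T U : Scheme.{u}} (u : U ⟶ Y) [Etale u] (a b : T ⟶ U)
    (hab : a ≫ u = b ≫ u) (t : T)
    (h : T.fromSpecResidueField t ≫ a = T.fromSpecResidueField t ≫ b) :
    ∃ (E : Scheme.{u}) (g : E ⟶ T) (_ : IsOpenImmersion g) (t' : E), g t' = t ∧ g ≫ a = g ≫ b := by
  let l : T ⟶ pullback u u := pullback.lift a b hab
  have hl1 : l ≫ pullback.fst u u = a := pullback.lift_fst _ _ _
  have hl2 : l ≫ pullback.snd u u = b := pullback.lift_snd _ _ _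
  have hE : pullback.fst l (pullback.diagonal u) ≫ a = pullback.fst l (pullback.diagonal u) ≫ b := by
    have h1 := pullback.condition (f := l) (g := pullback.diagonal u)
    have h2 := congrArg (fun z => z ≫ pullback.fst _ _) h1
    have h3 := congrArg (fun z => z ≫ pullback.snd _ _) h1
    simp only [Category.assoc, hl1, hl2, pullback.diagonal_fst, pullback.diagonal_snd] at h2 h3
    exact h2.trans h3.symm
  let e : Spec (T.residueField t) ⟶ pullback l (pullback.diagonal u) :=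
    pullback.lift (T.fromSpecResidueField t) (T.fromSpecResidueField t ≫ a) (by
      apply pullback.hom_ext
      · rw [Category.assoc, hl1, Category.assoc, Category.assoc, pullback.diagonal_fst,
          Category.comp_id]
      · rw [Category.assoc, hl2, Category.assoc, Category.assoc, pullback.diagonal_snd,
          Category.comp_id, h])
  refine ⟨_, pullback.fst l (pullback.diagonal u), inferInstance, e default, ?_, hE⟩
  rw [← Scheme.Hom.comp_apply, pullback.lift_fst]
  exact Scheme.fromSpecResidueField_apply _ _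

theorem exists_eq_nbhd {T U : Y.Etale} (a b : T ⟶ U) (t : T.left)
    (h : T.left.fromSpecResidueField t ≫ a.left = T.left.fromSpecResidueField t ≫ b.left) :
    ∃ (T' : Y.Etale) (g : T' ⟶ T) (t' : T'.left), g.left t' = t ∧ g ≫ a = g ≫ b := by
  have ha : a.left ≫ U.hom = T.hom := MorphismProperty.Over.w a
  have hb : b.left ≫ U.hom = T.hom := MorphismProperty.Over.w b
  obtain ⟨E, g, hg, t', ht', hE⟩ := exists_eq_nbhd' U.hom a.left b.left (ha.trans hb.symm) t h
  have hT : Etale T.hom := T.prop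
  exact ⟨Scheme.Etale.mk (g ≫ T.hom), EqLocus.homMk g rfl, t', ht', EqLocus.hom_ext hE⟩

/-- **Étale excision at a closed point.** -/
theorem excCond_of_unique [IsAlgClosed k] (q : Y ⟶ Spec (CommRingCat.of k)) [LocallyOfFiniteType q]
    (w : V ⟶ Y) [Etale w] (O : Y.Opens) (y₀ : Y) (hcl : IsClosed {y₀}) (hO : ∀ y, y ∉ O → y = y₀)
    (v₀ : V) (hv₀ : w v₀ = y₀) (huniq : ∀ v, w v = y₀ → v = v₀) :
    ExcCond O (Scheme.Etale.mk w) where
  surj y hy := ⟨v₀, hv₀.trans (hO y hy).symm⟩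
  inj T a b t ht := by
    have hw : ∀ a : T ⟶ Scheme.Etale.mk w, w (a.left t) = y₀ := by
      intro a
      rw [← hO _ ht]
      exact Cover.hom_apply a t
    have hcl' : IsClosed {v₀} := by
      have h1 : ({v₀} : Set V) = w ⁻¹' {y₀} := by
        ext v
        constructor
        · rintro rfl
          exact hv₀
        · exact fun hv => huniq v hv
      rw [h1]
      exact hcl.preimage w.continuous
    refine exists_eq_nbhd a b t ?_
    refine eq_on_residueField (w ≫ q) a.left b.left ?_ t v₀ (huniq _ (hw a)) (huniq _ (hw b)) hcl'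
    have ha : a.left ≫ w = T.hom := MorphismProperty.Over.w a
    have hb : b.left ≫ w = T.hom := MorphismProperty.Over.w b
    exact (Category.assoc _ _ _).symm.trans ((congrArg (fun z => z ≫ q) (ha.trans hb.symm)).trans
      (Category.assoc _ _ _))

/-- The open neighbourhood of a point of an étale scheme where it is the only preimage of its
image. -/
theorem exists_open_unique (w : V ⟶ Y) [Etale w] (v₀ : V) (hcl : IsClosed {w v₀}) :
    ∃ N : V.Opens, v₀ ∈ N ∧ ∀ v ∈ N, w v = w v₀ → v = v₀ := by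
  have h0 : LocallyQuasiFinite w := Groth.Agent.Desc.LQF.of_etale w
  have h1 := w.isDiscrete_preimage_singleton (w v₀)
  have h2 : IsClosed (w ⁻¹' {w v₀} \ {v₀}) :=
    isClosed_of_subset_discrete_closed Set.sdiff_subset h1 (hcl.preimage w.continuous)
  exact ⟨⟨(w ⁻¹' {w v₀} \ {v₀})ᶜ, h2.isOpen_compl⟩, fun h => h.2 rfl, fun v hv h => by
    by_contra hne
    exact hv ⟨h, hne⟩⟩

variable (M : Type) [AddCommGroup M] {m : ℕ}

/-- Classes supported at a closed point are determined on any étale neighbourhood. -/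
theorem eq_zero_of_etale [IsAlgClosed k] (q : Y ⟶ Spec (CommRingCat.of k)) [LocallyOfFiniteType q]
    (O : Y.Opens) (y₀ : Y) (hcl : IsClosed {y₀}) (hO : ∀ y, y ∉ O → y = y₀) (z : HS M O m)
    (w : V ⟶ Y) [Etale w] (v₀ : V) (hv₀ : w v₀ = y₀)
    (h : plc M w (le_refl (w ⁻¹ᵁ O)) m z = 0) : z = 0 := by
  obtain ⟨N, hN, huniq⟩ := exists_open_unique w v₀ (by rw [hv₀]; exact hcl)
  have hE : ExcCond O (Scheme.Etale.mk (N.ι ≫ w)) :=
    excCond_of_unique q (N.ι ≫ w) O y₀ hcl hO ⟨v₀, hN⟩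
      ((Scheme.Hom.comp_apply _ _ _).trans hv₀) (fun v hv => by
        rw [Scheme.Hom.comp_apply] at hv
        exact Subtype.ext (huniq (N.ι v) v.2 (hv.trans hv₀.symm)))
  apply (plc_bijective M (N.ι ≫ w) hE m).1
  have h1 : (N.ι ≫ w) ⁻¹ᵁ O ≤ N.ι ⁻¹ᵁ (w ⁻¹ᵁ O) := le_refl _
  rw [map_zero, ← plc_plc M N.ι w (N.ι ≫ w) rfl (le_refl _) h1 (le_refl _), h, map_zero]

/-- **Comparison**: `a = ν b` on an étale neighbourhood of `γ(x)` in `P` implies `z = ν z'` if `z`, `z'` are
supported at `x` and equal to `γ^* a`, `γ^* b` near `x`. -/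
theorem eq_zsmul_of_local [IsAlgClosed k] (q : Y ⟶ Spec (CommRingCat.of k)) [LocallyOfFiniteType q]
    (O : Y.Opens) (y₀ : Y) (hcl : IsClosed {y₀}) (hO : ∀ y, y ∉ O → y = y₀) (z z' : HS M O m)
    {N P : Scheme.{u}} (j : N ⟶ Y) [Etale j] (γ : N ⟶ P) (n₀ : N) (hn₀ : j n₀ = y₀)
    {OP : P.Opens} (a b : HS M OP m) (hγ : j ⁻¹ᵁ O ≤ γ ⁻¹ᵁ OP)
    (hz : plc M j (le_refl (j ⁻¹ᵁ O)) m z = plc M γ hγ m a)
    (hz' : plc M j (le_refl (j ⁻¹ᵁ O)) m z' = plc M γ hγ m b)
    (V : P.Etale) (v : V.left) (hv : V.hom v = γ n₀) (ν : ℤ)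
    (h : plc M V.hom (le_refl (V.hom ⁻¹ᵁ OP)) m (a - ν • b) = 0) : z = ν • z' := by
  have hV : Etale V.hom := V.prop
  rw [← sub_eq_zero]
  let w : pullback V.hom γ ⟶ Y := pullback.snd V.hom γ ≫ j
  obtain ⟨x₀, hx1, hx2⟩ := Scheme.Pullback.exists_preimage_pullback (f := V.hom) (g := γ) v n₀ hv
  have hw : w x₀ = y₀ := by
    rw [Scheme.Hom.comp_apply, hx2, hn₀]
  refine eq_zero_of_etale M q O y₀ hcl hO _ w x₀ hw ?_
  have h1 : w ⁻¹ᵁ O ≤ pullback.snd V.hom γ ⁻¹ᵁ (j ⁻¹ᵁ O) := le_refl _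
  have h2 : w ⁻¹ᵁ O ≤ (pullback.snd V.hom γ ≫ γ) ⁻¹ᵁ OP := fun y hy => hγ (h1 hy)
  have h3 : w ⁻¹ᵁ O ≤ pullback.fst V.hom γ ⁻¹ᵁ (V.hom ⁻¹ᵁ OP) := by
    intro y hy
    have := h2 hy
    rw [← pullback.condition] at this
    exact this
  rw [← plc_plc M (pullback.snd V.hom γ) j w rfl (le_refl _) h1 (le_refl _), map_sub, map_zsmul, hz,
    hz', ← map_zsmul, ← map_sub, plc_plc M (pullback.snd V.hom γ) γ _ rfl hγ h1 h2,
    ← plc_plc M (pullback.fst V.hom γ) V.hom _ pullback.condition (le_refl _) h3 h2, h, map_zero]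

end

end Groth.Agent.Sga4h.H556.ExcPt
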