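import Groth.Agent.Sga4h.H556.Exc
import Groth.Agent.Etcore.MVShriek

/-!
# Restriction of supports, decomposition of supports, and the classes `cl`
-/

set_option autoImplicit false
universe u
open CategoryTheory CategoryTheory.Limits AlgebraicGeometry Opposite Abelian
open Groth.Agent.Sga4B.DualShape Groth.Agent.EtpbcA Groth.Agent.Sga4B.DiagB
open scoped Groth.Agent.Etcore.EtInst
open Groth.Agent.Etcore.EtInst

namespace Groth.Agent.Sga4h.H556.Cl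

open Groth.Agent.Sga4B Groth.Agent.Etcore Groth.Agent.Sga4h.H556.Supp Groth.Agent.Sga4h.H556.Glue
open Groth.Agent.Sga4h.H556.Exc
open Groth.Agent.Etcore.PullCoh (toTop_ext res_comp res_id map_res eta_map map_comp_app)

noncomputable section

variable {X Y Z : Scheme.{u}}

/-! ### Restriction of supports -/

/-- A section vanishing on `O` vanishes on `O' ≤ O`. -/
theorem res_zero_mono {O' O : Y.Opens} (h : O' ≤ O) (F : EtCoh.Ab Y)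
    (s : EtCoh.sect F (EtCoh.top Y)) (hs : F.obj.map (toTop (opE O)).op s = 0) :
    F.obj.map (toTop (opE O')).op s = 0 := by
  let a : opE O' ⟶ opE O := MorphismProperty.Over.homMk (Y.homOfLE h) (Y.homOfLE_ι h) trivial
  rw [toTop_ext (toTop (opE O')) (a ≫ toTop (opE O)), res_comp, hs, map_zero]

/-- `ZQ O' ⟶ ZQ O` for `O' ≤ O`. -/
def tau {O' O : Y.Opens} (h : O' ≤ O) : ZQ O' ⟶ ZQ O :=
  desc O' (zπ O) (res_zero_mono h _ _ (res_one_zπ O))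

theorem zπ_tau {O' O : Y.Opens} (h : O' ≤ O) : zπ O' ≫ tau h = zπ O := zπ_desc _ _ _

theorem bq_tau (g : X ⟶ Y) {O' O : Y.Opens} (h : O' ≤ O) {O'' : X.Opens} (h' : O'' ≤ g ⁻¹ᵁ O')
    (h'' : O'' ≤ g ⁻¹ᵁ O) : bq g h' ≫ (EtCoh.pull g).map (tau h) = bq g h'' := by
  rw [← cancel_epi (zπ O''), ← Category.assoc, zπ_bq, Category.assoc, ← Functor.map_comp, zπ_tau,
    zπ_bq]

theorem tau_bq (g : X ⟶ Y) {O : Y.Opens} {O'' O' : X.Opens} (h : O'' ≤ O') (h' : O' ≤ g ⁻¹ᵁ O)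
    (h'' : O'' ≤ g ⁻¹ᵁ O) : tau h ≫ bq g h' = bq g h'' := by
  rw [← cancel_epi (zπ O''), ← Category.assoc, zπ_tau, zπ_bq, zπ_bq]

/-- Restriction of supports. -/
def rs {O' O : Y.Opens} (h : O' ≤ O) (F : EtCoh.Ab Y) (m : ℕ) : HZ O F m →+ HZ O' F m :=
  (Ext.mk₀ (tau h)).precomp _ (zero_add m)

theorem rs_apply {O' O : Y.Opens} (h : O' ≤ O) (F : EtCoh.Ab Y) (m : ℕ) (x : HZ O F m) :
    rs h F m x = (Ext.mk₀ (tau h)).comp x (zero_add m) := rfl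

theorem fg_rs {O' O : Y.Opens} (h : O' ≤ O) (F : EtCoh.Ab Y) (m : ℕ) (x : HZ O F m) :
    fg O' F m (rs h F m x) = fg O F m x := by
  rw [fg_apply, rs_apply, fg_apply, Ext.mk₀_comp_mk₀_assoc, zπ_tau]

theorem pl_rs (g : X ⟶ Y) {O' O : Y.Opens} (h : O' ≤ O) {O'' : X.Opens} (h' : O'' ≤ g ⁻¹ᵁ O')
    (h'' : O'' ≤ g ⁻¹ᵁ O) {F : EtCoh.Ab Y} {F' : EtCoh.Ab X} (α : (EtCoh.pull g).obj F ⟶ F')
    (m : ℕ) (x : HZ O F m) : pl g h' α m (rs h F m x) = pl g h'' α m x := by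
  rw [pl_apply, pl_apply, rs_apply, ExtCmp.cmp_apply, ExtCmp.cmp_apply, Ext.mapExactFunctor_comp,
    Ext.mapExactFunctor_mk₀, Ext.mk₀_comp_mk₀_assoc, bq_tau g h h' h'']

theorem rs_pl (g : X ⟶ Y) {O : Y.Opens} {O'' O' : X.Opens} (h : O'' ≤ O') (h' : O' ≤ g ⁻¹ᵁ O)
    (h'' : O'' ≤ g ⁻¹ᵁ O) {F : EtCoh.Ab Y} {F' : EtCoh.Ab X} (α : (EtCoh.pull g).obj F ⟶ F')
    (m : ℕ) (x : HZ O F m) : rs h F' m (pl g h' α m x) = pl g h'' α m x := by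
  rw [pl_apply, pl_apply, rs_apply, ExtCmp.cmp_apply, ExtCmp.cmp_apply,
    ← Ext.comp_assoc_of_third_deg_zero, Ext.mk₀_comp_mk₀_assoc, tau_bq g h h' h'']

theorem rs_rs {O'' O' O : Y.Opens} (h : O' ≤ O) (h' : O'' ≤ O') (h'' : O'' ≤ O) (F : EtCoh.Ab Y)
    (m : ℕ) (x : HZ O F m) : rs h' F m (rs h F m x) = rs h'' F m x := by
  have e : tau h' ≫ tau h = tau h'' := by
    rw [← cancel_epi (zπ O''), ← Category.assoc, zπ_tau, zπ_tau, zπ_tau]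
  rw [rs_apply, rs_apply, rs_apply, Ext.mk₀_comp_mk₀_assoc, e]

theorem rs_refl {O : Y.Opens} (h : O ≤ O) (F : EtCoh.Ab Y) (m : ℕ) (x : HZ O F m) :
    rs h F m x = x := by
  have e : tau h = 𝟙 _ := by
    rw [← cancel_epi (zπ O), zπ_tau, Category.comp_id]
  rw [rs_apply, e, Ext.mk₀_id_comp]

/-! ### Zariski excision -/

theorem excCond_opens {N O : Y.Opens} (h : N ⊔ O = ⊤) : ExcCond O (opE N) where
  surj y hy := by
    have h1 : y ∈ N ⊔ O := h ▸ TopologicalSpace.Opens.mem_top y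
    rcases (TopologicalSpace.Opens.mem_sup).1 h1 with h2 | h2
    · exact ⟨(⟨y, h2⟩ : N), rfl⟩
    · exact absurd h2 hy
  inj T a b t _ := by
    have h1 : Subsingleton (T ⟶ opE N) := Cover.hom_subsingleton N T
    exact ⟨T, 𝟙 T, t, rfl, by rw [Subsingleton.elim a b]⟩

/-- **Zariski excision.** -/
theorem plc_ι_bijective (M : Type) [AddCommGroup M] {N O : Y.Opens} (h : N ⊔ O = ⊤) (m : ℕ) :
    Function.Bijective (plc M N.ι (le_refl (N.ι ⁻¹ᵁ O)) m) :=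
  plc_bijective M N.ι (excCond_opens h) m

theorem excCond_id (O : Y.Opens) : ExcCond O (Scheme.Etale.mk (𝟙 Y)) where
  surj y _ := ⟨y, rfl⟩
  inj T a b t _ := ⟨T, 𝟙 T, t, rfl, by rw [toTop_ext a b]⟩

theorem plc_id (M : Type) [AddCommGroup M] {O : Y.Opens} (h : O ≤ 𝟙 Y ⁻¹ᵁ O) (m : ℕ)
    (x : HS M O m) : plc M (𝟙 Y) h m x = x := by
  apply (plc_bijective M (𝟙 Y) (excCond_id O) m).1
  exact plc_plc M (𝟙 Y) (𝟙 Y) (𝟙 Y) (Category.comp_id _) _ _ _ m x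

theorem fg_bot_bijective (F : EtCoh.Ab Y) (m : ℕ) :
    Function.Bijective (fg (⊥ : Y.Opens) F m) := by
  have h0 : zin (⊥ : Y.Opens) = 0 := by
    refine (DiagPkg.isZero_JF_of_isEmpty ℤ (opE (⊥ : Y.Opens)) ⟨fun x => ?_⟩).eq_of_src _ _
    exact (x : (⊥ : Y.Opens)).2
  have h1 : IsIso (zπ (⊥ : Y.Opens)) := by
    change IsIso (cokernel.π (zin (⊥ : Y.Opens)))
    rw [h0]
    infer_instance
  exact bijective_precomp (zπ (⊥ : Y.Opens)) F m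

theorem hc_id (M : Type) [AddCommGroup M] (m : ℕ) (x : HH Y (EtCoh.const Y M) m) :
    hc M (𝟙 Y) m x = x := by
  obtain ⟨y, rfl⟩ := (fg_bot_bijective (EtCoh.const Y M) m).2 x
  rw [← fg_plc M (𝟙 Y) (O := ⊥) (O' := ⊥) le_rfl m y, plc_id]

/-! ### Decomposition of supports -/

section Decomp

variable {O₁ O₂ : Y.Opens} (h12 : O₁ ⊔ O₂ = ⊤)

/-- `ZQ (O₁ ⊓ O₂) ⟶ ZQ O₁ ⊞ ZQ O₂` -/
def beta (O₁ O₂ : Y.Opens) : ZQ (O₁ ⊓ O₂) ⟶ ZQ O₁ ⊞ ZQ O₂ :=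
  biprod.lift (tau inf_le_left) (tau inf_le_right)

theorem one_add {F : EtCoh.Ab Y} (φ ψ : EtCoh.const Y ℤ ⟶ F) :
    one (φ + ψ) = one φ + one ψ := rfl

theorem one_zero {F : EtCoh.Ab Y} : one (0 : EtCoh.const Y ℤ ⟶ F) = 0 := rfl

include h12 in
theorem eq_zero_of_cover (F : EtCoh.Ab Y) (s : EtCoh.sect F (EtCoh.top Y))
    (h1 : F.obj.map (toTop (opE O₁)).op s = 0) (h2 : F.obj.map (toTop (opE O₂)).op s = 0) :
    s = 0 :=
  eq_zero_of_res (excCond_opens (N := O₂) (O := O₁) (by rw [sup_comm]; exact h12)) F s h2 h1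

include h12 in
theorem exists_split (F : EtCoh.Ab Y) (s : EtCoh.sect F (EtCoh.top Y))
    (hs : F.obj.map (toTop (opE (O₁ ⊓ O₂))).op s = 0) :
    ∃ s₁ s₂ : EtCoh.sect F (EtCoh.top Y), s = s₁ + s₂ ∧ F.obj.map (toTop (opE O₁)).op s₁ = 0 ∧
      F.obj.map (toTop (opE O₂)).op s₂ = 0 := by
  obtain ⟨t, ht1, ht2⟩ := exists_glue
    (excCond_opens (N := O₂) (O := O₁) (by rw [sup_comm]; exact h12)) F
    (F.obj.map (toTop (opE O₂)).op s) (by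
      intro T a hT
      have h1 : ∀ t, T.hom t ∈ O₁ ⊓ O₂ := fun t => ⟨hT t, by
        rw [← Cover.hom_apply a t]
        exact (a.left t : O₂).2⟩
      obtain ⟨b⟩ := (Cover.hom_nonempty_iff (O₁ ⊓ O₂) T).2 h1
      rw [← res_comp, toTop_ext (a ≫ toTop (opE O₂)) (b ≫ toTop (opE (O₁ ⊓ O₂))), res_comp, hs,
        map_zero])
  refine ⟨t, s - t, by abel, ht2, ?_⟩
  rw [map_sub, ht1, sub_self]

include h12 in
theorem isIso_beta : IsIso (beta O₁ O₂) := by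
  rw [isIso_iff_coyoneda_map_bijective]
  intro F
  have key : ∀ φ : ZQ O₁ ⊞ ZQ O₂ ⟶ F, one (zπ (O₁ ⊓ O₂) ≫ beta O₁ O₂ ≫ φ) =
      one (zπ O₁ ≫ biprod.inl ≫ φ) + one (zπ O₂ ≫ biprod.inr ≫ φ) := by
    intro φ
    have h1 : zπ (O₁ ⊓ O₂) ≫ beta O₁ O₂ = zπ O₁ ≫ biprod.inl + zπ O₂ ≫ biprod.inr := by
      rw [beta, biprod.lift_eq, Preadditive.comp_add, ← Category.assoc, ← Category.assoc, zπ_tau,
        zπ_tau]
    rw [← Category.assoc, h1, Preadditive.add_comp, one_add, Category.assoc, Category.assoc]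
  constructor
  · intro φ ψ h
    have h0 := congrArg (fun t => one (zπ (O₁ ⊓ O₂) ≫ t)) h
    dsimp only at h0
    rw [key, key] at h0
    have r1 : ∀ φ : ZQ O₁ ⊞ ZQ O₂ ⟶ F, F.obj.map (toTop (opE O₁)).op
      (one (zπ O₁ ≫ biprod.inl ≫ φ)) = 0 := fun φ => res_one_of F _
    have r2 : ∀ φ : ZQ O₁ ⊞ ZQ O₂ ⟶ F, F.obj.map (toTop (opE O₂)).op
      (one (zπ O₂ ≫ biprod.inr ≫ φ)) = 0 := fun φ => res_one_of F _
    have h1 : one (zπ O₁ ≫ biprod.inl ≫ φ) - one (zπ O₁ ≫ biprod.inl ≫ ψ) =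
        one (zπ O₂ ≫ biprod.inr ≫ ψ) - one (zπ O₂ ≫ biprod.inr ≫ φ) := by
      rw [sub_eq_sub_iff_add_eq_add, h0, add_comm]
    have h2 : one (zπ O₁ ≫ biprod.inl ≫ φ) - one (zπ O₁ ≫ biprod.inl ≫ ψ) = 0 := by
      refine eq_zero_of_cover h12 F _ ?_ ?_
      · rw [map_sub, r1, r1, sub_self]
      · rw [h1, map_sub, r2, r2, sub_self]
    have h3 := h1.symm.trans h2
    refine biprod.hom_ext' _ _ ?_ ?_
    · rw [← cancel_epi (zπ O₁)]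
      exact one_ext (sub_eq_zero.1 h2)
    · rw [← cancel_epi (zπ O₂)]
      exact one_ext (sub_eq_zero.1 h3).symm
  · intro ψ
    obtain ⟨s₁, s₂, h1, h2, h3⟩ := exists_split h12 F (one (zπ (O₁ ⊓ O₂) ≫ ψ)) (res_one_of F ψ)
    obtain ⟨φ₁, hφ₁⟩ := exists_one s₁
    obtain ⟨φ₂, hφ₂⟩ := exists_one s₂
    refine ⟨biprod.desc (desc O₁ φ₁ (by rw [hφ₁, h2])) (desc O₂ φ₂ (by rw [hφ₂, h3])), ?_⟩
    dsimp only
    rw [← cancel_epi (zπ (O₁ ⊓ O₂))]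
    refine one_ext ?_
    rw [key, biprod.inl_desc, biprod.inr_desc, zπ_desc, zπ_desc, hφ₁, hφ₂, h1]

include h12 in
/-- **Decomposition of supports.** -/
theorem exists_decomp (F : EtCoh.Ab Y) (m : ℕ) (z : HZ (O₁ ⊓ O₂) F m) :
    ∃ (z₁ : HZ O₁ F m) (z₂ : HZ O₂ F m),
      z = rs inf_le_left F m z₁ + rs inf_le_right F m z₂ := by
  have := isIso_beta h12
  obtain ⟨y, rfl⟩ := (bijective_precomp (beta O₁ O₂) F m).2 z
  refine ⟨(Ext.mk₀ biprod.inl).comp y (zero_add m), (Ext.mk₀ biprod.inr).comp y (zero_add m), ?_⟩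
  rw [rs_apply, rs_apply, Ext.mk₀_comp_mk₀_assoc, Ext.mk₀_comp_mk₀_assoc, ← Ext.add_comp,
    ← Ext.mk₀_add]
  rw [beta, biprod.lift_eq]

end Decomp

/-- Classes with empty support vanish. -/
theorem eq_zero_of_top {O : Y.Opens} (hO : O = ⊤) (F : EtCoh.Ab Y) (m : ℕ) (z : HZ O F m) :
    z = 0 := by
  have h0 : zπ O = 0 := by
    refine one_ext ?_
    rw [one_zero]
    refine eq_zero_of_res (excCond_opens (N := O) (O := O) (by simp [hO])) _ _ (res_one_zπ O)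
      (res_one_zπ O)
  have h1 : 𝟙 (ZQ O) = 0 := by rw [← cancel_epi (zπ O), h0, zero_comp, zero_comp]
  rw [← Ext.mk₀_id_comp z, h1, Ext.mk₀_zero, Ext.zero_comp]

/-! ### Lifting of classes which vanish on `O` -/

section Lift

open Groth.Agent.Etcore.MVShriek

variable (O : Y.Opens)

theorem c_comp_eq_zero_iff [EtShriek.JCont O.ι] {F : EtCoh.Ab Y} (ψ : EtCoh.const Y ℤ ⟶ F) :
    c O.ι (EtCoh.const Y ℤ) ≫ ψ = 0 ↔ zin O ≫ ψ = 0 := by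
  have h1 : c O.ι (EtCoh.const Y ℤ) ≫ ψ = 0 ↔ (EtCoh.pull O.ι).map ψ = 0 := by
    have h : (adj O.ι).homEquiv _ _ (c O.ι (EtCoh.const Y ℤ) ≫ ψ) = (EtCoh.pull O.ι).map ψ := by
      rw [Adjunction.homEquiv_unit, Functor.map_comp]
      exact (adj O.ι).right_triangle_components_assoc _ _
    rw [← h]
    constructor
    · intro h0
      rw [h0, Adjunction.homEquiv_unit, Functor.map_zero, comp_zero]
    · intro h0
      apply ((adj O.ι).homEquiv _ _).injective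
      rw [h0, Adjunction.homEquiv_unit, Functor.map_zero, comp_zero]
  have h2 : (EtCoh.pull O.ι).map ψ = 0 ↔ us O.ι F (one ψ) = 0 := by
    rw [← one_pull]
    constructor
    · intro h0
      rw [h0, comp_zero, one_zero]
    · intro h0
      have h3 : (EtCore.pullConst O.ι ℤ).inv ≫ (EtCoh.pull O.ι).map ψ = 0 :=
        one_ext (h0.trans one_zero.symm)
      rw [← cancel_epi (EtCore.pullConst O.ι ℤ).inv, h3, comp_zero]
  have h4 : us O.ι F (one ψ) = 0 ↔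
      F.obj.map (toTop ((EtShriek.compEtale O.ι).obj (EtCoh.top O))).op (one ψ) = 0 := by
    rw [← rw'_us]
    constructor
    · intro h0
      rw [h0, map_zero]
    · intro h0
      exact (rw'_bijective O.ι F _).1 (h0.trans (map_zero _).symm)
  have h5 : F.obj.map (toTop ((EtShriek.compEtale O.ι).obj (EtCoh.top O))).op (one ψ) = 0 ↔
      F.obj.map (toTop (opE O)).op (one ψ) = 0 := by
    constructor
    · intro h0
      rw [toTop_ext (toTop (opE O)) ((compTopIso O.ι).hom ≫ toTop _), res_comp, h0, map_zero]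
    · intro h0
      rw [toTop_ext (toTop ((EtShriek.compEtale O.ι).obj (EtCoh.top O)))
        ((compTopIso O.ι).inv ≫ toTop (opE O)), res_comp, h0, map_zero]
  rw [h1, h2, h4, h5, zin_comp_eq_zero_iff]

/-- **Lifting**: a class which vanishes on `O` comes from cohomology with supports. -/
theorem exists_fg (F : EtCoh.Ab Y) (m : ℕ) (x : HH Y F m)
    (hx : HpullCalc.hp O.ι F m x = 0) : ∃ z : HZ O F m, fg O F m z = x := by
  have hJ : EtShriek.JCont O.ι := EtaleRes.jCont O.ι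
  let σ := c O.ι (EtCoh.const Y ℤ)
  have hσ : Mono σ := mono_c O.ι _
  have h0 : σ ≫ zπ O = 0 := (c_comp_eq_zero_iff O (zπ O)).2 (zin_zπ O)
  let S : ShortComplex (EtCoh.Ab Y) := ShortComplex.mk σ (zπ O) h0
  have hS : S.ShortExact := by
    refine ShortComplex.ShortExact.mk' ?_ hσ (inferInstanceAs (Epi (zπ O)))
    refine S.exact_of_g_is_cokernel (CokernelCofork.IsColimit.ofπ (zπ O) h0
      (fun ψ hψ => cokernel.desc (zin O) ψ ((c_comp_eq_zero_iff O ψ).1 hψ))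
      (fun ψ hψ => cokernel.π_desc _ _ _) (fun ψ hψ m hm => ?_))
    rw [← cancel_epi (zπ O), hm]
    exact (cokernel.π_desc _ _ _).symm
  have h1 : (Ext.mk₀ S.f).comp x (zero_add m) = 0 := by
    change (Ext.mk₀ σ).comp x (zero_add m) = 0
    apply (ExtAdj.extAdj (adj O.ι) ((EtCoh.pull O.ι).obj (EtCoh.const Y ℤ)) F m).injective
    rw [map_zero, ExtAdj.extAdj_apply, Ext.mapExactFunctor_comp, Ext.mapExactFunctor_mk₀,
      Ext.mk₀_comp_mk₀_assoc]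
    have e1 : (adj O.ι).unit.app ((EtCoh.pull O.ι).obj (EtCoh.const Y ℤ)) ≫
        (EtCoh.pull O.ι).map σ = 𝟙 _ := (adj O.ι).right_triangle_components _
    rw [e1, Ext.mk₀_id_comp]
    have h2 : (Ext.mk₀ (EtCore.pullConst O.ι ℤ).inv).comp (x.mapExactFunctor (EtCoh.pull O.ι))
      (zero_add m) = 0 := hx
    exact (bijective_precomp (EtCore.pullConst O.ι ℤ).inv _ m).1
      (h2.trans (by simp))
  obtain ⟨z, hz⟩ := Ext.contravariant_sequence_exact₂ hS F x h1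
  exact ⟨z, hz⟩

/-- **Lifting**, constant coefficients. -/
theorem exists_fg_const (M : Type) [AddCommGroup M] (m : ℕ) (x : HH Y (EtCoh.const Y M) m)
    (hx : hc M O.ι m x = 0) : ∃ z : HS M O m, fg O _ m z = x := by
  refine exists_fg O _ m x ?_
  rw [hc_apply] at hx
  exact (HHmap_bijective (EtCore.pullConst O.ι M).hom m).1 (hx.trans (map_zero _).symm)

end Lift

/-! ### The classes `cl` -/

section Cl

variable (M : Type) [AddCommGroup M] {P : Scheme.{u}} {O₀ : P.Opens} {m : ℕ} (κ : HS M O₀ m)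

/-- The class with supports: `W` an open neighbourhood of `Y ∖ O`, `Φ : W ⟶ P` with
`Φ⁻¹(P ∖ O₀) ⊆ Y ∖ O`; the unique class in `H^m_{Y∖O}(Y, M)` which is `Φ^* κ` on `W`. -/
def clz {W O : Y.Opens} (hWO : W ⊔ O = ⊤) (Φ : W.toScheme ⟶ P) (hΦ : W.ι ⁻¹ᵁ O ≤ Φ ⁻¹ᵁ O₀) :
    HS M O m :=
  ((plc_ι_bijective M hWO m).2 (plc M Φ hΦ m κ)).choose

theorem plc_clz {W O : Y.Opens} (hWO : W ⊔ O = ⊤) (Φ : W.toScheme ⟶ P)
    (hΦ : W.ι ⁻¹ᵁ O ≤ Φ ⁻¹ᵁ O₀) :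
    plc M W.ι (le_refl (W.ι ⁻¹ᵁ O)) m (clz M κ hWO Φ hΦ) = plc M Φ hΦ m κ :=
  ((plc_ι_bijective M hWO m).2 (plc M Φ hΦ m κ)).choose_spec

theorem eq_clz {W O : Y.Opens} (hWO : W ⊔ O = ⊤) (Φ : W.toScheme ⟶ P)
    (hΦ : W.ι ⁻¹ᵁ O ≤ Φ ⁻¹ᵁ O₀) (z : HS M O m)
    (hz : plc M W.ι (le_refl (W.ι ⁻¹ᵁ O)) m z = plc M Φ hΦ m κ) : z = clz M κ hWO Φ hΦ :=
  (plc_ι_bijective M hWO m).1 (hz.trans (plc_clz M κ hWO Φ hΦ).symm)

/-- The class in `H^m(Y, M)` attached to `(W, O, Φ)`. -/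
def cl {W O : Y.Opens} (hWO : W ⊔ O = ⊤) (Φ : W.toScheme ⟶ P) (hΦ : W.ι ⁻¹ᵁ O ≤ Φ ⁻¹ᵁ O₀) :
    HH Y (EtCoh.const Y M) m := fg O _ m (clz M κ hWO Φ hΦ)

/-- Functoriality (and independence of `W`, `O`). -/
theorem plc_clz_of (g : X ⟶ Y) {W O : Y.Opens} (hWO : W ⊔ O = ⊤) (Φ : W.toScheme ⟶ P)
    (hΦ : W.ι ⁻¹ᵁ O ≤ Φ ⁻¹ᵁ O₀) {W' O' : X.Opens} (hWO' : W' ⊔ O' = ⊤) (Φ' : W'.toScheme ⟶ P)
    (hΦ' : W'.ι ⁻¹ᵁ O' ≤ Φ' ⁻¹ᵁ O₀) (hW : W' ≤ g ⁻¹ᵁ W) (hO : O' ≤ g ⁻¹ᵁ O)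
    (e : g.resLE W W' hW ≫ Φ = Φ') :
    plc M g hO m (clz M κ hWO Φ hΦ) = clz M κ hWO' Φ' hΦ' := by
  refine eq_clz M κ hWO' Φ' hΦ' _ ?_
  have h1 : W'.ι ⁻¹ᵁ O' ≤ (W'.ι ≫ g) ⁻¹ᵁ O := fun x hx => hO hx
  have h2 : W'.ι ⁻¹ᵁ O' ≤ (g.resLE W W' hW) ⁻¹ᵁ (W.ι ⁻¹ᵁ O) := by
    have h3 : (g.resLE W W' hW) ⁻¹ᵁ (W.ι ⁻¹ᵁ O) = (W'.ι ≫ g) ⁻¹ᵁ O := by
      rw [← Scheme.Hom.resLE_comp_ι g hW]
      rfl
    rw [h3]
    exact h1
  rw [plc_plc M W'.ι g (W'.ι ≫ g) rfl hO (le_refl _) h1,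
    ← plc_plc M (g.resLE W W' hW) W.ι (W'.ι ≫ g) (Scheme.Hom.resLE_comp_ι g hW)
      (le_refl (W.ι ⁻¹ᵁ O)) h2 h1, plc_clz, plc_plc M (g.resLE W W' hW) Φ Φ' e hΦ h2 hΦ']

theorem hc_cl (g : X ⟶ Y) {W O : Y.Opens} (hWO : W ⊔ O = ⊤) (Φ : W.toScheme ⟶ P)
    (hΦ : W.ι ⁻¹ᵁ O ≤ Φ ⁻¹ᵁ O₀) {W' O' : X.Opens} (hWO' : W' ⊔ O' = ⊤) (Φ' : W'.toScheme ⟶ P)
    (hΦ' : W'.ι ⁻¹ᵁ O' ≤ Φ' ⁻¹ᵁ O₀) (hW : W' ≤ g ⁻¹ᵁ W) (hO : O' ≤ g ⁻¹ᵁ O)
    (e : g.resLE W W' hW ≫ Φ = Φ') :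
    hc M g m (cl M κ hWO Φ hΦ) = cl M κ hWO' Φ' hΦ' := by
  rw [cl, cl, ← plc_clz_of M κ g hWO Φ hΦ hWO' Φ' hΦ' hW hO e, fg_plc]

end Cl

end

end Groth.Agent.Sga4h.H556.Cl
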