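import Groth.Agent.Sga4h.H13.FamBase
import Mathlib.RingTheory.RingHom.StandardSmooth

/-!
# Étale coordinates on smooth schemes over a field
-/

set_option autoImplicit false
universe u
open CategoryTheory CategoryTheory.Limits AlgebraicGeometry Opposite

namespace Groth.Agent.Sga4h.H556.CoordEx

open Groth.Agent.Sga4h.H13

variable {k : Type u} [Field k] {X : Scheme.{u}} (p : X ⟶ Spec (CommRingCat.of k)) (d : ℕ)

theorem exists_coord [SmoothOfRelativeDimension d p] (x : X) :
    ∃ (N : X.Opens) (t : N.toScheme ⟶ Aff k d), x ∈ N ∧ Etale t ∧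
      t ≫ Aff.str k d = N.ι ≫ p := by
  obtain ⟨U, hU, V, hV, hxV, e, hsm⟩ :=
    SmoothOfRelativeDimension.exists_isStandardSmoothOfRelativeDimension (n := d) (f := p) x
  obtain rfl : U = ⊤ := by
    rw [eq_top_iff]
    intro y _
    have h1 : p x ∈ U := e hxV
    rwa [Subsingleton.elim y (p x)]
  let φ : CommRingCat.of k ⟶ Γ(X, V) := (Scheme.ΓSpecIso (CommRingCat.of k)).inv ≫ p.appLE ⊤ V e
  have hφ : φ.hom.IsStandardSmoothOfRelativeDimension d := by
    have h := (RingHom.isStandardSmoothOfRelativeDimension_respectsIso (n := d)).2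
      (p.appLE ⊤ V e).hom (Scheme.ΓSpecIso (CommRingCat.of k)).symm.commRingCatIsoToRingEquiv hsm
    exact h
  let _ : Algebra k Γ(X, V) := φ.hom.toAlgebra
  obtain ⟨g, hg, hget⟩ := hφ.exists_etale_mvPolynomial
  let v : ULift.{u} (Fin d) → Γ(X, V) := fun i => g (MvPolynomial.X i.down)
  have hv : (MvPolynomial.aeval v : MvPolynomial _ k →ₐ[k] Γ(X, V)).toRingHom.Etale := by
    have h1 : (MvPolynomial.aeval v : MvPolynomial _ k →ₐ[k] Γ(X, V)).toRingHom =
        g.comp (MvPolynomial.renameEquiv k (Equiv.ulift.{u} : ULift.{u} (Fin d) ≃ Fin d)).toRingEquiv.toRingHom := by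
      apply MvPolynomial.ringHom_ext
      · intro r
        have h2 : g (MvPolynomial.C r) = φ.hom r := by
          rw [← hg]
          rfl
        simp [h2]
        rfl
      · intro i
        simp [v]
    rw [h1]
    exact RingHom.Etale.respectsIso.2 g _ hget
  have hover : specHom k v = specHom k v := rfl
  refine ⟨V, hV.isoSpec.hom ≫ specHom k v, hxV, ?_, ?_⟩
  · have := etale_specHom (k := k) v hv
    infer_instance
  · rw [Category.assoc, specHom_str]
    have h2 : Spec.map (CommRingCat.ofHom (algebraMap k Γ(X, V))) = hV.fromSpec ≫ p := by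
      have h3 := IsAffineOpen.SpecMap_appLE_fromSpec p (isAffineOpen_top _) hV e
      rw [← h3, IsAffineOpen.fromSpec_top, Scheme.isoSpec_Spec_inv, ← Spec.map_comp]
      rfl
    rw [h2, IsAffineOpen.isoSpec_hom_fromSpec_assoc]

end Groth.Agent.Sga4h.H556.CoordEx
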