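import Groth.Agent.Sga4h.H556.Cl

/-!
# Decomposition of supports: locality, additivity of `cl`, finite sets of closed points
-/

set_option autoImplicit false
universe u
open CategoryTheory CategoryTheory.Limits AlgebraicGeometry Opposite Abelian
open Groth.Agent.Sga4B.DualShape Groth.Agent.EtpbcA Groth.Agent.Sga4B.DiagB
open scoped Groth.Agent.Etcore.EtInst
open Groth.Agent.Etcore.EtInst

namespace Groth.Agent.Sga4h.H556.Decomp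

open Groth.Agent.Sga4B Groth.Agent.Etcore Groth.Agent.Sga4h.H556.Supp Groth.Agent.Sga4h.H556.Glue
open Groth.Agent.Sga4h.H556.Exc Groth.Agent.Sga4h.H556.Cl

noncomputable section

variable {X Y : Scheme.{u}} (M : Type) [AddCommGroup M] {m : ℕ}

/-- A class supported in `Y ∖ O₂` vanishes on `V` if `V ⟶ Y` factors through `O₂`. -/
theorem plc_eq_zero (g : X ⟶ Y) {O₂ : Y.Opens} (hg : g ⁻¹ᵁ O₂ = ⊤) {O' : X.Opens}
    (h : O' ≤ g ⁻¹ᵁ O₂) (z : HS M O₂ m) : plc M g h m z = 0 := by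
  have h1 := rs_pl g (le_top : O' ≤ ⊤) hg.ge h (EtCore.pullConst g M).hom m z
  refine h1.symm.trans ?_
  have h2 : pl g hg.ge (EtCore.pullConst g M).hom m z = 0 := eq_zero_of_top rfl _ _ _
  rw [h2, map_zero]

theorem plc_decomp {O₁ O₂ : Y.Opens} {z : HS M (O₁ ⊓ O₂) m} {z₁ : HS M O₁ m} {z₂ : HS M O₂ m}
    (hz : z = rs inf_le_left _ m z₁ + rs inf_le_right _ m z₂) (g : X ⟶ Y) (hg : g ⁻¹ᵁ O₂ = ⊤)
    {O' : X.Opens} (h : O' ≤ g ⁻¹ᵁ O₁) (h' : O' ≤ g ⁻¹ᵁ (O₁ ⊓ O₂)) :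
    plc M g h' m z = plc M g h m z₁ := by
  have h2 : O' ≤ g ⁻¹ᵁ O₂ := fun x hx => (h' hx).2
  rw [hz, map_add]
  have e1 := pl_rs g (inf_le_left : O₁ ⊓ O₂ ≤ O₁) h' h (EtCore.pullConst g M).hom m z₁
  have e2 := pl_rs g (inf_le_right : O₁ ⊓ O₂ ≤ O₂) h' h2 (EtCore.pullConst g M).hom m z₂
  have e3 := plc_eq_zero M g hg h2 z₂
  exact (congrArg₂ (· + ·) e1 (e2.trans e3)).trans (add_zero _)

/-- Additivity of `cl`. -/
theorem cl_add {P : Scheme.{u}} {O₀ : P.Opens} (κ : HS M O₀ m) {W O₁ O₂ : Y.Opens}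
    (h12 : O₁ ⊔ O₂ = ⊤) (hWO : W ⊔ (O₁ ⊓ O₂) = ⊤) (Φ : W.toScheme ⟶ P)
    (hΦ : W.ι ⁻¹ᵁ (O₁ ⊓ O₂) ≤ Φ ⁻¹ᵁ O₀) {W₁ W₂ : Y.Opens} (hW₁ : W₁ ≤ W) (hW₂ : W₂ ≤ W)
    (hWO₁ : W₁ ⊔ O₁ = ⊤) (hWO₂ : W₂ ⊔ O₂ = ⊤) (h₁ : W₁ ≤ O₂) (h₂ : W₂ ≤ O₁)
    (hΦ₁ : W₁.ι ⁻¹ᵁ O₁ ≤ (Y.homOfLE hW₁ ≫ Φ) ⁻¹ᵁ O₀)
    (hΦ₂ : W₂.ι ⁻¹ᵁ O₂ ≤ (Y.homOfLE hW₂ ≫ Φ) ⁻¹ᵁ O₀) :
    cl M κ hWO Φ hΦ =
      cl M κ hWO₁ (Y.homOfLE hW₁ ≫ Φ) hΦ₁ + cl M κ hWO₂ (Y.homOfLE hW₂ ≫ Φ) hΦ₂ := by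
  obtain ⟨z₁, z₂, hz⟩ := exists_decomp h12 (EtCoh.const Y M) m (clz M κ hWO Φ hΦ)
  have key : ∀ (W' : Y.Opens) (hW' : W' ≤ W) (O' : W'.toScheme.Opens)
      (h' : O' ≤ W'.ι ⁻¹ᵁ (O₁ ⊓ O₂)) (h'' : O' ≤ (Y.homOfLE hW' ≫ Φ) ⁻¹ᵁ O₀),
      plc M W'.ι h' m (clz M κ hWO Φ hΦ) = plc M (Y.homOfLE hW' ≫ Φ) h'' m κ := by
    intro W' hW' O' h' h''
    have h3 : O' ≤ (Y.homOfLE hW') ⁻¹ᵁ (W.ι ⁻¹ᵁ (O₁ ⊓ O₂)) := by
      have e : (Y.homOfLE hW') ⁻¹ᵁ (W.ι ⁻¹ᵁ (O₁ ⊓ O₂)) = W'.ι ⁻¹ᵁ (O₁ ⊓ O₂) := by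
        rw [← Scheme.Hom.comp_preimage, Scheme.homOfLE_ι]
      rw [e]
      exact h'
    rw [← plc_plc M (Y.homOfLE hW') W.ι W'.ι (Scheme.homOfLE_ι _ hW') (le_refl _) h3 h',
      plc_clz, plc_plc M (Y.homOfLE hW') Φ (Y.homOfLE hW' ≫ Φ) rfl hΦ h3 h'']
  have e1 : z₁ = clz M κ hWO₁ (Y.homOfLE hW₁ ≫ Φ) hΦ₁ := by
    refine eq_clz M κ hWO₁ _ hΦ₁ z₁ ?_
    have hh : W₁.ι ⁻¹ᵁ O₁ ≤ W₁.ι ⁻¹ᵁ (O₁ ⊓ O₂) := fun x hx => ⟨hx, h₁ x.2⟩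
    have hg : W₁.ι ⁻¹ᵁ O₂ = ⊤ := by
      rw [eq_top_iff]
      exact fun x _ => h₁ x.2
    rw [← plc_decomp M hz W₁.ι hg (le_refl _) hh, key W₁ hW₁ _ hh hΦ₁]
  have hz' : rs (le_of_eq (inf_comm O₂ O₁)) _ m (clz M κ hWO Φ hΦ) =
      rs (inf_le_left : O₂ ⊓ O₁ ≤ O₂) _ m z₂ + rs (inf_le_right : O₂ ⊓ O₁ ≤ O₁) _ m z₁ := by
    rw [hz, map_add, rs_rs _ _ inf_le_right, rs_rs _ _ inf_le_left, add_comm]
  have e2 : z₂ = clz M κ hWO₂ (Y.homOfLE hW₂ ≫ Φ) hΦ₂ := by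
    refine eq_clz M κ hWO₂ _ hΦ₂ z₂ ?_
    have hh : W₂.ι ⁻¹ᵁ O₂ ≤ W₂.ι ⁻¹ᵁ (O₂ ⊓ O₁) := fun x hx => ⟨hx, h₂ x.2⟩
    have hh' : W₂.ι ⁻¹ᵁ O₂ ≤ W₂.ι ⁻¹ᵁ (O₁ ⊓ O₂) := fun x hx => ⟨h₂ x.2, hx⟩
    have hg : W₂.ι ⁻¹ᵁ O₁ = ⊤ := by
      rw [eq_top_iff]
      exact fun x _ => h₂ x.2
    rw [← plc_decomp M hz' W₂.ι hg (le_refl _) hh, ← key W₂ hW₂ _ hh' hΦ₂]
    exact pl_rs W₂.ι _ hh hh' _ m _
  rw [cl, cl, cl, ← e1, ← e2]
  conv_lhs => rw [hz]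
  rw [map_add, fg_rs, fg_rs]

theorem plc_decomp₂ {O₁ O₂ : Y.Opens} {z : HS M (O₁ ⊓ O₂) m} {z₁ : HS M O₁ m} {z₂ : HS M O₂ m}
    (hz : z = rs inf_le_left _ m z₁ + rs inf_le_right _ m z₂) (g : X ⟶ Y) (hg : g ⁻¹ᵁ O₁ = ⊤)
    {O' : X.Opens} (h : O' ≤ g ⁻¹ᵁ O₂) (h' : O' ≤ g ⁻¹ᵁ (O₁ ⊓ O₂)) :
    plc M g h' m z = plc M g h m z₂ := by
  have h2 : O' ≤ g ⁻¹ᵁ O₁ := fun x hx => (h' hx).1
  rw [hz, map_add]
  have e1 := pl_rs g (inf_le_left : O₁ ⊓ O₂ ≤ O₁) h' h2 (EtCore.pullConst g M).hom m z₁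
  have e2 := pl_rs g (inf_le_right : O₁ ⊓ O₂ ≤ O₂) h' h (EtCore.pullConst g M).hom m z₂
  have e3 := plc_eq_zero M g hg h2 z₁
  exact (congrArg₂ (· + ·) (e1.trans e3) e2).trans (zero_add _)

open Classical in
/-- Decomposition of a class supported in a finite set of closed points. -/
theorem exists_decomp_finset (Ox : Y → Y.Opens) (s : Finset Y)
    (hx : ∀ x ∈ s, ∀ y, y ∉ Ox x ↔ y = x) {O : Y.Opens} (hO : ∀ y, y ∉ O ↔ y ∈ s)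
    (z : HS M O m) :
    ∃ zs : ∀ x, HS M (Ox x) m, fg O _ m z = ∑ x ∈ s, fg (Ox x) _ m (zs x) ∧
      ∀ x ∈ s, ∀ {V : Scheme.{u}} (g : V ⟶ Y) (_ : ∀ v, g v ∈ s → g v = x) (O' : V.Opens)
        (h : O' ≤ g ⁻¹ᵁ Ox x) (h' : O' ≤ g ⁻¹ᵁ O), plc M g h' m z = plc M g h m (zs x) := by
  induction s using Finset.induction_on generalizing O with
  | empty =>
    have hO' : O = ⊤ := by
      rw [eq_top_iff]
      intro y _
      by_contra hy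
      exact absurd ((hO y).1 hy) (Finset.notMem_empty y)
    refine ⟨fun x => 0, ?_, fun x hx => absurd hx (Finset.notMem_empty x)⟩
    rw [Finset.sum_empty, eq_zero_of_top hO' _ _ z, map_zero]
  | insert a s' ha ih =>
    have hcl : IsClosed (s' : Set Y) := by
      rw [← Set.biUnion_of_singleton (s' : Set Y)]
      refine Set.Finite.isClosed_biUnion s'.finite_toSet (fun x hx' => ?_)
      have h2 : ({x} : Set Y) = ((Ox x : Set Y))ᶜ := by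
        ext y
        exact (hx x (Finset.mem_insert_of_mem hx') y).symm
      rw [h2]
      exact (Ox x).isOpen.isClosed_compl
    let O₂ : Y.Opens := ⟨(s' : Set Y)ᶜ, hcl.isOpen_compl⟩
    have hO₂ : ∀ y, y ∉ O₂ ↔ y ∈ s' := fun y => not_not
    have hxa := hx a (Finset.mem_insert_self a s')
    obtain rfl : O = Ox a ⊓ O₂ := by
      ext y
      have h1 := hO y
      have h2 := hxa y
      have h3 := hO₂ y
      rw [Finset.mem_insert] at h1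
      change y ∈ O ↔ (y ∈ Ox a ∧ y ∈ O₂)
      tauto
    have h12 : Ox a ⊔ O₂ = ⊤ := by
      rw [eq_top_iff]
      intro y _
      rw [TopologicalSpace.Opens.mem_sup]
      by_contra hy
      rw [not_or] at hy
      have h1 := (hxa y).1 hy.1
      have h2 := (hO₂ y).1 hy.2
      rw [h1] at h2
      exact ha h2
    obtain ⟨za, z', hz⟩ := exists_decomp h12 (EtCoh.const Y M) m z
    obtain ⟨zs, h1, h2⟩ := ih (fun x hx' => hx x (Finset.mem_insert_of_mem hx')) hO₂ z'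
    refine ⟨Function.update zs a za, ?_, ?_⟩
    · rw [Finset.sum_insert ha, Function.update_self]
      have h3 : ∑ x ∈ s', fg (Ox x) _ m (Function.update zs a za x) =
          ∑ x ∈ s', fg (Ox x) _ m (zs x) := by
        refine Finset.sum_congr rfl (fun x hx' => ?_)
        rw [Function.update_of_ne]
        rintro rfl
        exact ha hx'
      rw [h3, ← h1, hz, map_add, fg_rs, fg_rs]
    · intro x hx' V g hg O' h h'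
      by_cases hxa' : x = a
      · subst hxa'
        rw [Function.update_self]
        refine plc_decomp M hz g ?_ h h'
        rw [eq_top_iff]
        intro v _
        change g v ∈ O₂
        by_contra hv
        have h3 := (hO₂ _).1 hv
        have h4 := hg v (Finset.mem_insert_of_mem h3)
        rw [h4] at h3
        exact ha h3
      · have hx'' : x ∈ s' := (Finset.mem_insert.1 hx').resolve_left hxa'
        rw [Function.update_of_ne hxa']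
        have hO' : O' ≤ g ⁻¹ᵁ O₂ := fun v hv => (h' hv).2
        have h3 : g ⁻¹ᵁ Ox a = ⊤ := by
          rw [eq_top_iff]
          intro v _
          change g v ∈ Ox a
          by_contra hv
          have h3 := (hxa _).1 hv
          have h4 := hg v (by rw [h3]; exact Finset.mem_insert_self a s')
          exact hxa' (h4.symm.trans h3)
        rw [plc_decomp₂ M hz g h3 hO' h']
        exact h2 x hx'' g (fun v hv => hg v (Finset.mem_insert_of_mem hv)) O' h hO'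

end

end Groth.Agent.Sga4h.H556.Decomp
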