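import Groth.Agent.Sga4h.H13.FamStmt
import Groth.Agent.Sga4h.H556.Decomp

/-!
# The classes of data (opens with a morphism to affine space)
-/

set_option autoImplicit false
universe u
open CategoryTheory CategoryTheory.Limits AlgebraicGeometry Opposite Abelian
open Groth.Agent.Sga4B.DualShape Groth.Agent.EtpbcA Groth.Agent.Sga4B.DiagB
open scoped Groth.Agent.Etcore.EtInst
open Groth.Agent.Etcore.EtInst

namespace Groth.Agent.Sga4h.H556.DatCl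

open Groth.Agent.Sga4B Groth.Agent.Etcore Groth.Agent.Sga4h.H556.Supp Groth.Agent.Sga4h.H556.Glue
open Groth.Agent.Sga4h.H556.Exc Groth.Agent.Sga4h.H556.Cl Groth.Agent.Sga4h.H556.Decomp
open Groth.Agent.Sga4h.H13

noncomputable section

instance (k : Type u) [Field k] (d : ℕ) : IsClosedImmersion (origin k d) := by
  have h : IsClosedImmersion (origin k d ≫ Aff.str k d) := by
    rw [origin_str]
    infer_instance
  exact IsClosedImmersion.of_comp (origin k d) (Aff.str k d)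

/-- The complement of the origin. -/
def O0 (k : Type u) [Field k] (d : ℕ) : (Aff k d).Opens :=
  ⟨(Set.range (origin k d))ᶜ, (origin k d).isClosedEmbedding.isClosed_range.isOpen_compl⟩

variable {k : Type u} [Field k] {X Y Y' : Scheme.{u}} {y : Y ⟶ Spec (CommRingCat.of k)} {d : ℕ}

theorem mem_zeros_iff {T : Scheme.{u}} (f : T ⟶ Aff k d) (t : T) :
    t ∈ zeros f ↔ t ∉ f ⁻¹ᵁ (O0 k d) := by
  change f t ∈ Set.range (origin k d) ↔ ¬ (f t ∈ (Set.range (origin k d))ᶜ)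
  rw [Set.mem_compl_iff, not_not]

variable (D : Dat y d)

theorem mem_compl_iff (z : Y) : z ∈ D.compl ↔ z ∉ D.Z := Iff.rfl

theorem mem_Z_iff (w : D.W) : (w : Y) ∈ D.Z ↔ w ∈ zeros D.Φ := by
  constructor
  · rintro ⟨w', hw', h⟩
    have : w' = w := Subtype.ext h
    exact this ▸ hw'
  · intro h
    exact ⟨w, h, rfl⟩

theorem hWO : D.W ⊔ D.compl = ⊤ := by
  rw [eq_top_iff]
  intro z _
  rw [TopologicalSpace.Opens.mem_sup]
  by_cases hz : z ∈ D.Z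
  · exact Or.inl (D.Z_subset hz)
  · exact Or.inr hz

theorem hΦ : D.W.ι ⁻¹ᵁ D.compl ≤ D.Φ ⁻¹ᵁ (O0 k d) := by
  intro w hw
  by_contra h
  exact hw ((mem_Z_iff D w).2 ((mem_zeros_iff D.Φ w).2 h))

variable (M : Type) [AddCommGroup M] {m : ℕ} (κ : HS M (O0 k d) m)

/-- The class with support of a datum. -/
def clzD : HS M D.compl m := clz M κ (hWO D) D.Φ (hΦ D)

/-- The class of a datum. -/
def clD : HH Y (EtCoh.const Y M) m := cl M κ (hWO D) D.Φ (hΦ D)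

theorem fg_clzD : fg D.compl _ m (clzD D M κ) = clD D M κ := rfl

theorem compl_pull (g : Y' ⟶ Y) : (D.pull g).compl ≤ g ⁻¹ᵁ D.compl := by
  intro z hz
  have h : z ∉ (D.pull g).Z := hz
  rw [D.pull_Z g] at h
  exact h

theorem plc_clzD (g : Y' ⟶ Y) :
    plc M g (compl_pull D g) m (clzD D M κ) = clzD (D.pull g) M κ := by
  refine plc_clz_of M κ g (hWO D) D.Φ (hΦ D) _ _ _ (le_refl _) (compl_pull D g) ?_
  change g.resLE D.W (g ⁻¹ᵁ D.W) (le_refl _) ≫ D.Φ = (g ∣_ D.W) ≫ D.Φ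
  rw [Scheme.Hom.resLE_eq_morphismRestrict]

theorem hc_clD (g : Y' ⟶ Y) : hc M g m (clD D M κ) = clD (D.pull g) M κ := by
  rw [← fg_clzD, ← fg_clzD, ← plc_clzD, fg_plc]

/-- The class only depends on the zero set and the germ of the map along it. -/
theorem cl_congr {W O W' O' : Y.Opens} (hWO : W ⊔ O = ⊤) (Φ : W.toScheme ⟶ Aff k d)
    (hΦ : W.ι ⁻¹ᵁ O ≤ Φ ⁻¹ᵁ (O0 k d)) (hWO' : W' ⊔ O' = ⊤) (Φ' : W'.toScheme ⟶ Aff k d)
    (hΦ' : W'.ι ⁻¹ᵁ O' ≤ Φ' ⁻¹ᵁ (O0 k d)) (N O'' : Y.Opens) (h : N ≤ W) (h' : N ≤ W')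
    (hO : O'' ≤ O) (hO' : O'' ≤ O') (hN : N ⊔ O'' = ⊤)
    (e : Y.homOfLE h ≫ Φ = Y.homOfLE h' ≫ Φ') :
    cl M κ hWO Φ hΦ = cl M κ hWO' Φ' hΦ' := by
  have h1 : N.ι ⁻¹ᵁ O'' ≤ (Y.homOfLE h ≫ Φ) ⁻¹ᵁ (O0 k d) := by
    intro z hz
    have h2 : Y.homOfLE h z ∈ W.ι ⁻¹ᵁ O := by
      change W.ι (Y.homOfLE h z) ∈ O
      rw [← Scheme.Hom.comp_apply, Scheme.homOfLE_ι]
      exact hO hz
    exact hΦ h2
  have h2 := hc_cl M κ (𝟙 Y) hWO Φ hΦ hN (Y.homOfLE h ≫ Φ) h1 h hO (by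
    rw [Scheme.Hom.resLE_id])
  have h3 := hc_cl M κ (𝟙 Y) hWO' Φ' hΦ' hN (Y.homOfLE h ≫ Φ) h1 h' hO' (by
    rw [Scheme.Hom.resLE_id, e])
  rw [hc_id] at h2 h3
  rw [h2, h3]

variable {M κ}

theorem clD_congr {y₁ y₂ : Y ⟶ Spec (CommRingCat.of k)} (D₁ : Dat y₁ d) (D₂ : Dat y₂ d)
    (N : Y.Opens) (h₁ : N ≤ D₁.W) (h₂ : N ≤ D₂.W) (hN : D₁.Z ⊆ N) (hZ : D₁.Z = D₂.Z)
    (e : Y.homOfLE h₁ ≫ D₁.Φ = Y.homOfLE h₂ ≫ D₂.Φ) : clD D₁ M κ = clD D₂ M κ := by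
  refine cl_congr M κ (hWO D₁) D₁.Φ (hΦ D₁) (hWO D₂) D₂.Φ (hΦ D₂) N D₁.compl h₁ h₂ (le_refl _) ?_
    ?_ e
  · intro z hz
    rw [mem_compl_iff] at hz ⊢
    rwa [hZ] at hz
  · rw [eq_top_iff]
    intro z _
    rw [TopologicalSpace.Opens.mem_sup]
    by_cases hz : z ∈ D₁.Z
    · exact Or.inl (hN hz)
    · exact Or.inr hz

/-- Two data which are restrictions of the same map, with the same zero set. -/
theorem clD_congr_of {y₁ y₂ : Y ⟶ Spec (CommRingCat.of k)} (D₁ : Dat y₁ d) (D₂ : Dat y₂ d)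
    (N : Y.Opens) (ψ : N.toScheme ⟶ Aff k d) (h₁ : D₁.Of N ψ) (h₂ : D₂.Of N ψ)
    (hZ : D₁.Z = D₂.Z) : clD D₁ M κ = clD D₂ M κ := by
  obtain ⟨a₁, e₁⟩ := h₁
  obtain ⟨a₂, e₂⟩ := h₂
  refine clD_congr D₁ D₂ (D₁.W ⊓ D₂.W) inf_le_left inf_le_right ?_ hZ ?_
  · intro z hz
    exact ⟨D₁.Z_subset hz, D₂.Z_subset (hZ ▸ hz)⟩
  · rw [e₁, e₂, Scheme.homOfLE_homOfLE_assoc, Scheme.homOfLE_homOfLE_assoc]

end

end Groth.Agent.Sga4h.H556.DatCl
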