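import Groth.Agent.Sga4h.H556.Nu

/-!
# The number of fixed points as the degree of the pull-back of the class of the diagonal
-/

set_option autoImplicit false
universe u
open CategoryTheory CategoryTheory.Limits AlgebraicGeometry Opposite Abelian
open Groth.Agent.Sga4B.DualShape Groth.Agent.EtpbcA Groth.Agent.Sga4B.DiagB
open scoped Groth.Agent.Etcore.EtInst
open Groth.Agent.Etcore.EtInst

namespace Groth.Agent.Sga4h.H556.Fixed

open Groth.Agent.Sga4B Groth.Agent.Etcore Groth.Agent.Sga4h.H556.Supp Groth.Agent.Sga4h.H556.Glue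
open Groth.Agent.Sga4h.H556.Exc Groth.Agent.Sga4h.H556.Cl Groth.Agent.Sga4h.H556.Decomp
open Groth.Agent.Sga4h.H556.DatCl Groth.Agent.Sga4h.H556.SimpleDat Groth.Agent.Sga4h.H556.MultA
open Groth.Agent.Sga4h.H556.ExcPt Groth.Agent.Sga4h.H556.Geo Groth.Agent.Sga4h.H556.Pur
open Groth.Agent.Sga4h.H556.Nu Groth.Agent.Sga4h.H556.Kappa
open Groth.Agent.Sga4h.H13

noncomputable section

variable {k : Type u} [Field k] {X : Scheme.{u}} (p : X ⟶ Spec (CommRingCat.of k))

/-! ### Fixed points -/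

section Fix

variable (f : X ⟶ X) (hf : f ≫ p = p)

/-- `(f, 1)` -/
def gr : X ⟶ pullback p p := pullback.lift f (𝟙 X) (by rw [hf, Category.id_comp])

@[reassoc (attr := simp)]
theorem gr_fst : gr p f hf ≫ pullback.fst p p = f := pullback.lift_fst _ _ _

@[reassoc (attr := simp)]
theorem gr_snd : gr p f hf ≫ pullback.snd p p = 𝟙 X := pullback.lift_snd _ _ _

/-- `(1, f)` -/
def gr' : X ⟶ pullback p p := pullback.lift (𝟙 X) f (by rw [hf, Category.id_comp])

theorem gr_symm : gr p f hf ≫ (pullbackSymmetry p p).hom = gr' p f hf := by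
  apply pullback.hom_ext
  · rw [Category.assoc, pullbackSymmetry_hom_comp_fst, gr_snd]
    exact (pullback.lift_fst _ _ _).symm
  · rw [Category.assoc, pullbackSymmetry_hom_comp_snd, gr_fst]
    exact (pullback.lift_snd _ _ _).symm

theorem diag_symm : pullback.diagonal p ≫ (pullbackSymmetry p p).hom = pullback.diagonal p := by
  apply pullback.hom_ext
  · rw [Category.assoc, pullbackSymmetry_hom_comp_fst, pullback.diagonal_snd,
      pullback.diagonal_fst]
  · rw [Category.assoc, pullbackSymmetry_hom_comp_snd, pullback.diagonal_fst,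
      pullback.diagonal_snd]

/-- The set of fixed points. -/
def FixS : Set X := {x | gr p f hf x ∈ Set.range (pullback.diagonal p)}

theorem FixS_eq : FixS p f hf = Set.range (pullback.fst (pullback.lift (𝟙 X) f
    (by rw [hf, Category.id_comp]) : X ⟶ pullback p p)
    (pullback.lift (𝟙 X) (𝟙 X) rfl : X ⟶ pullback p p)) := by
  rw [Scheme.Pullback.range_fst]
  ext x
  change gr p f hf x ∈ Set.range (pullback.diagonal p) ↔
    gr' p f hf x ∈ Set.range (pullback.diagonal p)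
  rw [← gr_symm, Scheme.Hom.comp_apply]
  have h1 : ∀ y, (pullbackSymmetry p p).hom (pullback.diagonal p y) = pullback.diagonal p y := by
    intro y
    rw [← Scheme.Hom.comp_apply, diag_symm]
  constructor
  · rintro ⟨y, hy⟩
    exact ⟨y, by rw [← hy, h1]⟩
  · rintro ⟨y, hy⟩
    refine ⟨y, ?_⟩
    apply (pullbackSymmetry p p).hom.isOpenEmbedding.injective
    rw [h1, hy]

theorem finite_FixS [IsFinite (FinFr.fixSchemeTo p f hf)] : (FixS p f hf).Finite := by
  rw [FixS_eq]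
  have h1 : Finite ↥(FinFr.fixScheme p f hf) := by
    have h2 := (FinFr.fixSchemeTo p f hf).finite_preimage_singleton default
    have h3 : (FinFr.fixSchemeTo p f hf) ⁻¹' {default} = Set.univ := by
      ext x
      simp only [Set.mem_preimage, Set.mem_singleton_iff, Set.mem_univ, iff_true]
      exact Subsingleton.elim _ _
    rw [h3] at h2
    exact Set.finite_univ_iff.1 h2
  exact @Set.finite_range _ _ _ h1

theorem isClosed_FixS [IsSeparated p] : IsClosed (FixS p f hf) :=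
  (pullback.diagonal p).isClosedEmbedding.isClosed_range.preimage (gr p f hf).continuous

end Fix

/-! ### Local situation -/

section Loc

variable {p} {f : X ⟶ X} (hf : f ≫ p = p) {d : ℕ} {U : X.Opens}
  {N : X.Opens} (h₁ : N ≤ U) (h₂ : N ≤ f ⁻¹ᵁ U)

/-- `(1, f) : N ⟶ X × U` -/
def gam : N.toScheme ⟶ pullback p (U.ι ≫ p) :=
  pullback.lift N.ι (X.homOfLE h₂ ≫ (f ∣_ U)) (by
    rw [Category.assoc, morphismRestrict_ι_assoc, hf, Scheme.homOfLE_ι_assoc])

@[reassoc (attr := simp)]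
theorem gam_fst : gam hf h₂ ≫ pullback.fst p (U.ι ≫ p) = N.ι := pullback.lift_fst _ _ _

@[reassoc (attr := simp)]
theorem gam_snd : gam hf h₂ ≫ pullback.snd p (U.ι ≫ p) = X.homOfLE h₂ ≫ (f ∣_ U) :=
  pullback.lift_snd _ _ _

theorem gam_sw : gam hf h₂ ≫ sw p U = N.ι ≫ gr p f hf := by
  apply pullback.hom_ext
  · rw [Category.assoc, sw_fst, gam_snd_assoc, morphismRestrict_ι, Scheme.homOfLE_ι_assoc,
      Category.assoc, gr_fst]
  · rw [Category.assoc, sw_snd, gam_fst, Category.assoc, gr_snd, Category.comp_id]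

theorem gam_mem (z : N) : gam hf h₂ z ∈ Set.range (graph p U) ↔ (z : X) ∈ FixS p f hf := by
  have h : sw p U (gam hf h₂ z) = gr p f hf (N.ι z) := by
    rw [← Scheme.Hom.comp_apply, gam_sw, Scheme.Hom.comp_apply]
  constructor
  · rintro ⟨u, hu⟩
    refine ⟨U.ι u, ?_⟩
    change _ = gr p f hf (N.ι z)
    rw [← h, ← hu, ← Scheme.Hom.comp_apply, ← Scheme.Hom.comp_apply, graph_sw]
  · intro hz
    refine mem_range_graph p U _ ?_
    rw [h]
    exact hz

variable (t : U.toScheme ⟶ Aff k d)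

/-- `t - t ∘ f` -/
abbrev psi : N.toScheme ⟶ Aff k d :=
  sub (X.homOfLE h₁ ≫ t) (X.homOfLE h₂ ≫ (f ∣_ U) ≫ t)

variable {t} (D : Dat (pullback.fst p (U.ι ≫ p) ≫ p) d)
  (hDW : D.W ≤ pullback.fst p (U.ι ≫ p) ⁻¹ᵁ U)
  (hDΦ : D.Φ = sub ((pullback p (U.ι ≫ p)).homOfLE hDW ≫ (pullback.fst p (U.ι ≫ p) ∣_ U) ≫ t)
        (D.W.ι ≫ pullback.snd p (U.ι ≫ p) ≫ t))
  (hZ : D.Z = Set.range (graph p U)) (hN : ∀ z : N, gam hf h₂ z ∈ D.W)

/-- The factorization through `D.W`. -/
def lam : N.toScheme ⟶ D.W.toScheme :=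
  IsOpenImmersion.lift D.W.ι (gam hf h₂) (by
    rintro _ ⟨z, rfl⟩
    rw [Scheme.Opens.range_ι]
    exact hN z)

@[reassoc (attr := simp)]
theorem lam_ι : lam hf h₂ D hN ≫ D.W.ι = gam hf h₂ := IsOpenImmersion.lift_fac _ _ _

include hDΦ in
theorem lam_Φ : lam hf h₂ D hN ≫ D.Φ = psi (f := f) h₁ h₂ t := by
  rw [hDΦ, comp_sub]
  have e1 : lam hf h₂ D hN ≫ (pullback p (U.ι ≫ p)).homOfLE hDW ≫
      (pullback.fst p (U.ι ≫ p) ∣_ U) = X.homOfLE h₁ := by
    rw [← cancel_mono U.ι, Scheme.homOfLE_ι, Category.assoc, Category.assoc, morphismRestrict_ι,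
      Scheme.homOfLE_ι_assoc, lam_ι_assoc, gam_fst]
  have e2 : lam hf h₂ D hN ≫ D.W.ι ≫ pullback.snd p (U.ι ≫ p) ≫ t =
      X.homOfLE h₂ ≫ (f ∣_ U) ≫ t := by
    rw [lam_ι_assoc, gam_snd_assoc]
  rw [psi, ← e1, ← e2]
  simp only [Category.assoc]

include hDΦ hZ hN in
theorem mem_zeros_psi (z : N) : z ∈ zeros (psi (f := f) h₁ h₂ t) ↔ (z : X) ∈ FixS p f hf := by
  rw [← lam_Φ hf h₁ h₂ D hDW hDΦ hN, ← gam_mem hf h₂ z, ← hZ]
  have h : (lam hf h₂ D hN ≫ D.Φ) z ∈ Set.range (origin k d) ↔ lam hf h₂ D hN z ∈ zeros D.Φ := by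
    rw [Scheme.Hom.comp_apply]
    rfl
  refine h.trans ((mem_Z_iff D _).symm.trans ?_)
  have h3 : D.W.ι (lam hf h₂ D hN z) = gam hf h₂ z := by
    rw [← Scheme.Hom.comp_apply, lam_ι]
  exact iff_of_eq (congrArg (· ∈ D.Z) h3)

end Loc

end

end Groth.Agent.Sga4h.H556.Fixed
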