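import Groth.Agent.Sga4h.H556.Decomp
import Groth.Agent.EtpbcA.ClosedEpi
import Groth.Agent.Sga4h.TensorConst
import Groth.Agent.Sga4h.LocCohLocal
import Groth.Agent.Sga4h.KerSect
import Mathlib.CategoryTheory.Abelian.Injective.Ext
import Mathlib.Algebra.Field.ZMod

/-!
# Purity, local form: the class with supports is locally a multiple of a nonzero one
-/

set_option autoImplicit false
universe w w' v v' u u'
open CategoryTheory CategoryTheory.Limits AlgebraicGeometry Opposite Abelian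
open Groth.Agent.Sga4B.DualShape Groth.Agent.EtpbcA Groth.Agent.Sga4B.DiagB
open scoped Groth.Agent.Etcore.EtInst
open Groth.Agent.Etcore.EtInst

namespace Groth.Agent.Sga4h.H556.Pur

open Groth.Agent.Sga4B Groth.Agent.Etcore Groth.Agent.Sga4h.H556.Supp Groth.Agent.Sga4h.H556.Glue
open Groth.Agent.Sga4h.H556.Exc Groth.Agent.Sga4h.H556.Cl Groth.Agent.Sga4h.H556.Decomp
open Groth.Agent.Sga4h.EtaleRes Groth.Agent.Sga4h.LocCohLocal Groth.Agent.Sga4h.SecSupp
open Groth.Agent.Etcore.PullCoh (toTop_ext res_comp res_id map_res eta_map map_comp_app)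

noncomputable section

variable {X Y Z V : Scheme.{u}}

theorem left_comp {T T' T'' : Y.Etale} (g : T ⟶ T') (h : T' ⟶ T'') (x : T.left) :
    (g ≫ h).left x = h.left (g.left x) := Scheme.Hom.comp_apply g.left h.left x

/-- Local lifting of sections along an exact sequence of sheaves. -/
theorem exists_local_of_exact {S : ShortComplex (EtCoh.Ab Y)} (hS : S.Exact) (U : Y.Etale)
    (s : EtCoh.sect S.X₂ U) (hs : S.g.hom.app (op U) s = 0) (x : U.left) :
    ∃ (W : Y.Etale) (g : W ⟶ U) (w : W.left) (t : EtCoh.sect S.X₁ W), g.left w = x ∧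
      S.f.hom.app (op W) t = S.X₂.obj.map g.op s := by
  have h1 : Epi (kernel.lift S.g S.f S.zero) := (S.exact_iff_epi_kernel_lift).1 hS
  have h2 : Sheaf.IsLocallySurjective (kernel.lift S.g S.f S.zero) :=
    (Sheaf.isLocallySurjective_iff_epi' _ _).2 h1
  obtain ⟨t₀, ht₀⟩ := KerSect.exists_kernel_section S.g U s hs
  have h3 := Presheaf.imageSieve_mem Y.smallEtaleTopology (kernel.lift S.g S.f S.zero).hom t₀
  obtain ⟨W, g, w, ⟨t, ht⟩, hw⟩ := (Etbase.EtSite.mem_iff U _).1 h3 x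
  refine ⟨W, g, w, t, hw, ?_⟩
  have h4 : S.f.hom.app (op W) t =
      (kernel.ι S.g).hom.app (op W) ((kernel.lift S.g S.f S.zero).hom.app (op W) t) := by
    rw [← map_comp_app, kernel.lift_ι]
  rw [h4, ← ht₀, ← map_res]
  exact congrArg _ ht

section L1

variable (w : V ⟶ Y) [Etale w] [EtShriek.JCont w] {O : Y.Opens}

/-- Sections over `V` vanishing on `V ×_Y O` give morphisms from `ZQ` of the preimage. -/
theorem exists_hom_of_sect (F : EtCoh.Ab Y) (β : EtCoh.sect F ((EtShriek.compEtale w).obj (EtCoh.top V)))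
    (hβ : ∀ (T : Y.Etale) (a : T ⟶ (EtShriek.compEtale w).obj (EtCoh.top V)),
      (∀ t, T.hom t ∈ O) → F.obj.map a.op β = 0) :
    ∃ γ : ZQ (w ⁻¹ᵁ O) ⟶ (EtCoh.pull w).obj F,
      rw' w F (EtCoh.top V) (one (zπ (w ⁻¹ᵁ O) ≫ γ)) = β := by
  obtain ⟨t, ht⟩ := (rw'_bijective w F (EtCoh.top V)).2 β
  obtain ⟨φ, hφ⟩ := exists_one t
  have h1 : ((EtCoh.pull w).obj F).obj.map (toTop (opE (w ⁻¹ᵁ O))).op (one φ) = 0 := by
    apply (rw'_bijective w F _).1
    rw [rw'_res, map_zero, hφ, ht]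
    refine hβ _ _ (fun t => ?_)
    exact (show ↥(w ⁻¹ᵁ O) from t).2
  refine ⟨desc _ φ h1, ?_⟩
  rw [zπ_desc, hφ, ht]

/-- **Killing a class**. -/
theorem cmp_extMk_eq_zero {F : EtCoh.Ab Y} (R : InjectiveResolution F) {n m l : ℕ} (hm : n + 1 = m)
    (hl : m + 1 = l) (α : ZQ O ⟶ R.cocomplex.X m) (hα : α ≫ R.cocomplex.d m l = 0)
    (β : EtCoh.sect (R.cocomplex.X n) ((EtShriek.compEtale w).obj (EtCoh.top V)))
    (hβ : ∀ (T : Y.Etale) (a : T ⟶ (EtShriek.compEtale w).obj (EtCoh.top V)),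
      (∀ t, T.hom t ∈ O) → (R.cocomplex.X n).obj.map a.op β = 0)
    (h : (R.cocomplex.d n m).hom.app _ β =
      (R.cocomplex.X m).obj.map (toTop ((EtShriek.compEtale w).obj (EtCoh.top V))).op
        (one (zπ O ≫ α))) :
    ExtCmp.cmp (EtCoh.pull w) (bq w (le_refl (w ⁻¹ᵁ O))) F m (R.extMk α l hl hα) = 0 := by
  have i1 : PreservesFiniteLimits (EtShriek.extZero w) := inferInstance
  obtain ⟨γ, hγ⟩ := exists_hom_of_sect w (R.cocomplex.X n) β hβ
  let b : (EtShriek.extZero w).obj (ZQ (w ⁻¹ᵁ O)) ⟶ ZQ O :=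
    ((adjw w).homEquiv _ _).symm (bq w (le_refl (w ⁻¹ᵁ O)))
  have hb : (adjw w).unit.app _ ≫ (EtCoh.pull w).map b = bq w (le_refl (w ⁻¹ᵁ O)) := by
    exact ((adjw w).homEquiv_unit _ _ _).symm.trans (((adjw w).homEquiv _ _).apply_symm_apply _)
  let γ' : (EtShriek.extZero w).obj (ZQ (w ⁻¹ᵁ O)) ⟶ R.cocomplex.X n :=
    ((adjw w).homEquiv _ _).symm γ
  have hγ' : (adjw w).unit.app _ ≫ (EtCoh.pull w).map γ' = γ := by
    exact ((adjw w).homEquiv_unit _ _ _).symm.trans (((adjw w).homEquiv _ _).apply_symm_apply _)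
  have key : γ' ≫ R.cocomplex.d n m = b ≫ α := by
    apply ((adjw w).homEquiv _ _).injective
    rw [Adjunction.homEquiv_unit, Adjunction.homEquiv_unit, Functor.map_comp, Functor.map_comp,
      reassoc_of% hγ', reassoc_of% hb, ← cancel_epi (zπ (w ⁻¹ᵁ O))]
    refine one_ext ?_
    apply (rw'_bijective w _ (EtCoh.top V)).1
    rw [one_bq, rw'_us, ← h, ← hγ]
    have h2 : one (zπ (w ⁻¹ᵁ O) ≫ γ ≫ (EtCoh.pull w).map (R.cocomplex.d n m)) =
        ((EtCoh.pull w).map (R.cocomplex.d n m)).hom.app (op (EtCoh.top V))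
          (one (zπ (w ⁻¹ᵁ O) ≫ γ)) := by
      rw [← one_comp, Category.assoc]
    rw [h2]
    have h3 := congrArg (fun t => t.hom.app (op (EtCoh.top V)) (one (zπ (w ⁻¹ᵁ O) ≫ γ)))
      ((EtaleRes.pullIsoRestr w).hom.naturality (R.cocomplex.d n m))
    exact h3
  have h1 : (Ext.mk₀ b).comp (R.extMk α l hl hα) (zero_add m) = 0 := by
    rw [InjectiveResolution.mk₀_comp_extMk]
    exact (R.extMk_eq_zero_iff _ l hl _ n hm).2 ⟨γ', key⟩
  have h4 : ExtCmp.cmp (EtCoh.pull w) (bq w (le_refl (w ⁻¹ᵁ O))) F m (R.extMk α l hl hα) =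
      ExtAdj.extAdj (adjw w) _ F m ((Ext.mk₀ b).comp (R.extMk α l hl hα) (zero_add m)) := by
    rw [ExtAdj.extAdj_apply, ExtCmp.cmp_apply, Ext.mapExactFunctor_comp, Ext.mapExactFunctor_mk₀,
      Ext.mk₀_comp_mk₀_assoc, hb]
  rw [h4, h1, map_zero]

end L1

section L2

variable {O : Y.Opens} [EtCoh.BCCont O.ι]

theorem fac_opE {O : Y.Opens} {T : Y.Etale} (h : ∀ t, T.hom t ∈ O) : Fac O.ι T := by
  obtain ⟨a⟩ := (Cover.hom_nonempty_iff O T).2 h
  exact ⟨a.left, MorphismProperty.Over.w a⟩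

theorem mem_of_fac {O : Y.Opens} {T : Y.Etale} (h : Fac O.ι T) (t : T.left) : T.hom t ∈ O := by
  obtain ⟨a, ha⟩ := h
  rw [← ha]
  exact (a t).2

/-- A section dies in `j_* j^* F` iff its restriction to objects over `O` vanishes. -/
theorem unit_eq_zero_iff' (F : EtCoh.Ab Y) (V : Y.Etale) (s : EtCoh.sect F V) :
    (EtDual.unitApp O.ι F).hom.app (op V) s = 0 ↔
      ∀ (T : Y.Etale) (g : T ⟶ V), (∀ t, T.hom t ∈ O) → F.obj.map g.op s = 0 := by
  rw [unit_eq_zero_iff]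
  exact ⟨fun h T g hT => h T g (fac_opE hT), fun h T g hT => h T g (mem_of_fac hT)⟩

theorem comp_unit_eq_zero {F : EtCoh.Ab Y} (α : ZQ O ⟶ F) : α ≫ EtDual.unitApp O.ι F = 0 := by
  rw [← cancel_epi (zπ O), ← Category.assoc, comp_zero]
  refine one_ext ?_
  rw [one_comp, one_zero, unit_eq_zero_iff']
  intro T g hT
  obtain ⟨a⟩ := (Cover.hom_nonempty_iff O T).2 hT
  rw [toTop_ext g (a ≫ toTop (opE O)), res_comp, res_one_of, map_zero]

variable {F : EtCoh.Ab Y} (R : InjectiveResolution F)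

/-- The complex of sections with supports. -/
abbrev KK (O : Y.Opens) [EtCoh.BCCont O.ι] (R : InjectiveResolution F) :
    CochainComplex (EtCoh.Ab Y) ℕ :=
  ((EtDual.secSupp O.ι).mapHomologicalComplex _).obj R.cocomplex

/-- The inclusion. -/
def inc (O : Y.Opens) [EtCoh.BCCont O.ι] (R : InjectiveResolution F) (n : ℕ) :
    (KK O R).X n ⟶ R.cocomplex.X n := kernel.ι (EtDual.unitApp O.ι (R.cocomplex.X n))

instance (n : ℕ) : Mono (inc O R n) := inferInstanceAs (Mono (kernel.ι _))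

theorem inc_d (n m : ℕ) : (KK O R).d n m ≫ inc O R m = inc O R n ≫ R.cocomplex.d n m :=
  kernel.lift_ι _ _ _

/-- The factorization of a cocycle through sections with supports. -/
def fact (n : ℕ) (α : ZQ O ⟶ R.cocomplex.X n) : ZQ O ⟶ (KK O R).X n :=
  kernel.lift _ α (comp_unit_eq_zero α)

theorem fact_inc (n : ℕ) (α : ZQ O ⟶ R.cocomplex.X n) : fact R n α ≫ inc O R n = α :=
  kernel.lift_ι _ _ _

theorem fact_d (n m : ℕ) (α : ZQ O ⟶ R.cocomplex.X n) (hα : α ≫ R.cocomplex.d n m = 0) :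
    fact R n α ≫ (KK O R).d n m = 0 := by
  rw [← cancel_mono (inc O R m), Category.assoc, inc_d, ← Category.assoc, fact_inc, hα, zero_comp]

/-- The cohomology class of a cocycle, as a morphism to the local cohomology sheaf. -/
def sg (n m : ℕ) (hm : n + 1 = m) (α : ZQ O ⟶ R.cocomplex.X n)
    (hα : α ≫ R.cocomplex.d n m = 0) : ZQ O ⟶ (KK O R).homology n :=
  (KK O R).liftCycles (fact R n α) m ((ComplexShape.up ℕ).next_eq' hm) (fact_d R n m α hα) ≫
    (KK O R).homologyπ n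

theorem liftCycles_add {n m : ℕ} (hm : n + 1 = m) (α β : ZQ O ⟶ R.cocomplex.X n)
    (hα : α ≫ R.cocomplex.d n m = 0) (hβ : β ≫ R.cocomplex.d n m = 0) (ν : ℤ)
    (h : (α - ν • β) ≫ R.cocomplex.d n m = 0) :
    sg R n m hm (α - ν • β) h = sg R n m hm α hα - ν • sg R n m hm β hβ := by
  rw [sg, sg, sg, ← Preadditive.zsmul_comp, ← Preadditive.sub_comp]
  congr 1
  rw [← cancel_mono ((KK O R).iCycles n), Preadditive.sub_comp, Preadditive.zsmul_comp,
    HomologicalComplex.liftCycles_i, HomologicalComplex.liftCycles_i,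
    HomologicalComplex.liftCycles_i, ← cancel_mono (inc O R n), Preadditive.sub_comp,
    Preadditive.zsmul_comp, fact_inc, fact_inc, fact_inc]

/-- If the class of a cocycle vanishes on `U`, the class in cohomology with supports is killed
étale-locally on `U`. -/
theorem exists_killed {n m l : ℕ} (hm : n + 1 = m) (hl : m + 1 = l) (α : ZQ O ⟶ R.cocomplex.X m)
    (hα : α ≫ R.cocomplex.d m l = 0) (U : Y.Etale)
    (h : ((KK O R).homology m).obj.map (toTop U).op (one (zπ O ≫ sg R m l hl α hα)) = 0)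
    (x : U.left) :
    ∃ (W : Y.Etale) (g : W ⟶ U) (w : W.left), g.left w = x ∧
      ExtCmp.cmp (EtCoh.pull W.hom) (bq W.hom (le_refl (W.hom ⁻¹ᵁ O))) F m
        (R.extMk α l hl hα) = 0 := by
  let S : ShortComplex (EtCoh.Ab Y) := ShortComplex.mk ((KK O R).toCycles n m)
    ((KK O R).homologyπ m) ((KK O R).toCycles_comp_homologyπ n m)
  have hS : S.Exact := ShortComplex.exact_of_g_is_cokernel _
    ((KK O R).homologyIsCokernel n m ((ComplexShape.up ℕ).prev_eq' hm))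
  let c : ZQ O ⟶ (KK O R).cycles m :=
    (KK O R).liftCycles (fact R m α) l ((ComplexShape.up ℕ).next_eq' hl) (fact_d R m l α hα)
  let s : EtCoh.sect ((KK O R).cycles m) U := ((KK O R).cycles m).obj.map (toTop U).op
    (one (zπ O ≫ c))
  have hs : S.g.hom.app (op U) s = 0 := by
    refine (map_res S.g (toTop U) _).trans ?_
    refine Eq.trans ?_ h
    rfl
  obtain ⟨W, g, w, t, hw, ht⟩ := exists_local_of_exact hS U s hs x
  refine ⟨W, g, w, hw, ?_⟩
  have hJ : EtShriek.JCont W.hom := EtaleRes.jCont W.hom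
  let e : (EtShriek.compEtale W.hom).obj (EtCoh.top W.left) ⟶ W :=
    MorphismProperty.Over.homMk (𝟙 _) ((Category.id_comp _).trans (Category.id_comp _).symm) trivial
  let β₀ : EtCoh.sect (R.cocomplex.X n) W := (inc O R n).hom.app (op W) t
  have h1 : (R.cocomplex.d n m).hom.app (op W) β₀ =
      (R.cocomplex.X m).obj.map (toTop W).op (one (zπ O ≫ α)) := by
    have e1 : (R.cocomplex.d n m).hom.app (op W) β₀ =
        ((KK O R).iCycles m ≫ inc O R m).hom.app (op W)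
          (((KK O R).toCycles n m).hom.app (op W) t) := by
      have e2 : inc O R n ≫ R.cocomplex.d n m = (KK O R).toCycles n m ≫
          (KK O R).iCycles m ≫ inc O R m := by
        rw [HomologicalComplex.toCycles_i_assoc, inc_d]
      exact congrArg (fun z => z.hom.app (op W) t) e2
    have e4 : ((KK O R).toCycles n m).hom.app (op W) t =
        ((KK O R).cycles m).obj.map (toTop W).op (one (zπ O ≫ c)) := by
      refine ht.trans ?_
      rw [toTop_ext (toTop W) (g ≫ toTop U), res_comp]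
    rw [e1, e4, map_res]
    have e5 : ((KK O R).iCycles m ≫ inc O R m).hom.app (op (EtCoh.top Y)) (one (zπ O ≫ c)) =
        one (zπ O ≫ α) := by
      have e6 : c ≫ (KK O R).iCycles m ≫ inc O R m = α := by
        rw [HomologicalComplex.liftCycles_i_assoc, fact_inc]
      conv_rhs => rw [← e6]
      rw [← one_comp, Category.assoc]
    rw [e5]
  have h2 : ∀ (T : Y.Etale) (a : T ⟶ W), (∀ t, T.hom t ∈ O) →
      (R.cocomplex.X n).obj.map a.op β₀ = 0 :=
    (unit_eq_zero_iff' (R.cocomplex.X n) W β₀).1 (KerSect.kernel_ι_app_comp _ W t)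
  refine cmp_extMk_eq_zero W.hom R hm hl α hα ((R.cocomplex.X n).obj.map e.op β₀) ?_ ?_
  · intro T a hT
    rw [← res_comp]
    exact h2 T _ hT
  · refine (map_res (R.cocomplex.d n m) e β₀).trans ?_
    refine (congrArg ((R.cocomplex.X m).obj.map e.op) h1).trans ?_
    refine (res_comp (R.cocomplex.X m) (toTop W) e _).symm.trans ?_
    exact congrArg (fun z => (R.cocomplex.X m).obj.map (Quiver.Hom.op z) _) (toTop_ext _ _)

end L2

section L3

open ClosedRes TensorConst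

variable (i : Z ⟶ Y) (M : Type) [AddCommGroup M]

/-- `i_* i^* M`. -/
abbrev PP : EtCoh.Ab Y := (EtCoh.push i).obj ((EtCoh.pull i).obj (EtCoh.const Y M))

variable {i M} {E : EtCoh.Ab Y} {V₀ : Y.Etale} (ψ : EtCoh.restr E V₀ ≅ EtCoh.restr (PP i M) V₀)

/-- `ψ` on sections. -/
def psi {T : Y.Etale} (a : T ⟶ V₀) : EtCoh.sect E T →+ EtCoh.sect (PP i M) T :=
  (ψ.hom.hom.app (op (Over.mk a))).hom

theorem psi_injective {T : Y.Etale} (a : T ⟶ V₀) : Function.Injective (psi ψ a) := by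
  intro s t h
  have h1 := congrArg (fun z => (ψ.inv.hom.app (op (Over.mk a))).hom z) h
  have h2 : ∀ s : EtCoh.sect E T, (ψ.inv.hom.app (op (Over.mk a))).hom (psi ψ a s) = s := fun s =>
    congrArg (fun z : EtCoh.restr E V₀ ⟶ EtCoh.restr E V₀ => z.hom.app (op (Over.mk a)) s)
      ψ.hom_inv_id
  exact (h2 s).symm.trans (h1.trans (h2 t))

theorem psi_res {T T' : Y.Etale} (a : T ⟶ V₀) (g : T' ⟶ T) (s : EtCoh.sect E T) :
    psi ψ (g ≫ a) (E.obj.map g.op s) = (PP i M).obj.map g.op (psi ψ a s) :=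
  ConcreteCategory.congr_hom (ψ.hom.hom.naturality
    (Over.homMk g rfl : Over.mk (g ≫ a) ⟶ Over.mk a).op) s

/-- Sections of a sheaf which is locally `i_* i^* M` are locally constants. -/
theorem exists_const [IsClosedImmersion i] {T : Y.Etale} (a : T ⟶ V₀) (s : EtCoh.sect E T)
    (t : T.left) :
    ∃ (T' : Y.Etale) (g : T' ⟶ T) (t' : T'.left) (m : M), g.left t' = t ∧
      psi ψ (g ≫ a) (E.obj.map g.op s) = ηs i _ T' (cst M T' m) := by
  obtain ⟨T₁, g₁, t₁, f, ht₁, hf⟩ := ClosedEpi.exists_local_lift i (EtCoh.const Y M) T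
    (psi ψ a s) t
  obtain ⟨T₂, g₂, ⟨t₂, ht₂⟩, m, hm⟩ := exists_cst M T₁ f t₁
  refine ⟨T₂, g₂ ≫ g₁, t₂, m, ?_, ?_⟩
  · exact (left_comp g₂ g₁ t₂).trans ((congrArg g₁.left ht₂).trans ht₁)
  · rw [psi_res, res_comp, ← hf, ← ηs_map, hm]

/-- Germs: two sections of a sheaf which is locally `i_* i^* (ℤ/ℓ)`, the second one being nonzero
on all neighbourhoods. -/
theorem exists_multiple [IsClosedImmersion i] {ℓ : ℕ} [Fact ℓ.Prime]
    (ψ : EtCoh.restr E V₀ ≅ EtCoh.restr (PP i (ZMod ℓ)) V₀) (v₀ : V₀.left)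
    (s t : EtCoh.sect E V₀)
    (ht : ∀ (T : Y.Etale) (g : T ⟶ V₀) (x : T.left), g.left x = v₀ → E.obj.map g.op t ≠ 0) :
    ∃ (ν : ℤ) (T : Y.Etale) (g : T ⟶ V₀) (x : T.left), g.left x = v₀ ∧
      E.obj.map g.op (s - ν • t) = 0 := by
  obtain ⟨T₁, g₁, x₁, m₁, hx₁, hm₁⟩ := exists_const ψ (𝟙 V₀) s v₀
  obtain ⟨T₂, g₂, x₂, m₂, hx₂, hm₂⟩ := exists_const ψ (g₁ ≫ 𝟙 V₀) (E.obj.map g₁.op t) x₁
  have hx : (g₂ ≫ g₁).left x₂ = v₀ :=
    (left_comp g₂ g₁ x₂).trans ((congrArg g₁.left hx₂).trans hx₁)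
  have hm₂0 : m₂ ≠ 0 := by
    rintro rfl
    refine ht T₂ (g₂ ≫ g₁) x₂ hx ?_
    apply psi_injective ψ (g₂ ≫ g₁ ≫ 𝟙 V₀)
    rw [map_zero, res_comp, hm₂, cst_zero]
    exact map_zero ((η i _).hom.app (op T₂)).hom
  obtain ⟨ν, hν⟩ := ZMod.intCast_surjective (m₁ / m₂)
  refine ⟨ν, T₂, g₂ ≫ g₁, x₂, hx, ?_⟩
  have h1 : m₁ = ν • m₂ := by
    rw [zsmul_eq_mul, hν, div_mul_cancel₀ _ hm₂0]
  apply psi_injective ψ (g₂ ≫ g₁ ≫ 𝟙 V₀)
  rw [map_zero, map_sub, map_sub, map_zsmul, map_zsmul, res_comp E g₁ g₂ t, hm₂,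
    res_comp E g₁ g₂ s, psi_res ψ (g₁ ≫ 𝟙 V₀) g₂ (E.obj.map g₁.op s), hm₁, ← ηs_map, cst_res, h1,
    cst_zsmul]
  have h2 : ηs i (EtCoh.const Y (ZMod ℓ)) T₂ (ν • cst (ZMod ℓ) T₂ m₂) =
      ν • ηs i (EtCoh.const Y (ZMod ℓ)) T₂ (cst (ZMod ℓ) T₂ m₂) :=
    map_zsmul ((η i _).hom.app (op T₂)).hom ν _
  rw [h2, sub_self]

end L3

section Main

/-- `one` as a homomorphism. -/
def oneHom (F : EtCoh.Ab Y) : (EtCoh.const Y ℤ ⟶ F) →+ EtCoh.sect F (EtCoh.top Y) :=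
  AddMonoidHom.mk' one (fun _ _ => rfl)

theorem extMk_sub_zsmul {A F : EtCoh.Ab Y} (R : InjectiveResolution F) {n m : ℕ} (hm : n + 1 = m)
    (α β : A ⟶ R.cocomplex.X n) (hα : α ≫ R.cocomplex.d n m = 0)
    (hβ : β ≫ R.cocomplex.d n m = 0) (ν : ℤ) (h : (α - ν • β) ≫ R.cocomplex.d n m = 0) :
    R.extMk α m hm hα - ν • R.extMk β m hm hβ = R.extMk (α - ν • β) m hm h := by
  have hβ' : ((ν • 𝟙 A) ≫ β) ≫ R.cocomplex.d n m = 0 := by rw [Category.assoc, hβ, comp_zero]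
  have h1 : ν • R.extMk β m hm hβ = R.extMk ((ν • 𝟙 A) ≫ β) m hm hβ' := by
    let Φ : (A ⟶ A) →+ Ext A F n := AddMonoidHom.mk'
      (fun φ => (Ext.mk₀ φ).comp (R.extMk β m hm hβ) (zero_add n)) (fun φ ψ => by
        rw [Ext.mk₀_add, Ext.add_comp])
    have h2 := Φ.map_zsmul ν (𝟙 A)
    have h3 : Φ (𝟙 A) = R.extMk β m hm hβ := Ext.mk₀_id_comp _
    have h4 : Φ (ν • 𝟙 A) = R.extMk ((ν • 𝟙 A) ≫ β) m hm hβ' :=
      InjectiveResolution.mk₀_comp_extMk _ _ _ _ _ _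
    rw [← h4, h2, h3]
  have h5 : (ν • 𝟙 A) ≫ β = ν • β := by rw [Preadditive.zsmul_comp, Category.id_comp]
  rw [h1, InjectiveResolution.sub_extMk]
  congr 1
  rw [h5]

variable (i : Z ⟶ Y) [IsClosedImmersion i] (O : Y.Opens) [EtCoh.BCCont O.ι] {ℓ : ℕ}
  [Fact ℓ.Prime]

/-- **Purity, local form**: a class `a` with supports is, étale locally at a point where `b` is
nowhere killed, an integral multiple of `b`, if the local cohomology sheaf is locally isomorphic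
to `i_* i^* (ℤ/ℓ)`. -/
theorem exists_zsmul_pl {n : ℕ} (a b : HS (ZMod ℓ) O (n + 1)) (V₀ : Y.Etale) (v₀ : V₀.left)
    (hpur : Nonempty (EtCoh.restr ((EtDual.locCoh O.ι (n + 1)).obj (EtCoh.const Y (ZMod ℓ))) V₀ ≅
      EtCoh.restr ((EtCoh.push i).obj ((EtCoh.pull i).obj (EtCoh.const Y (ZMod ℓ)))) V₀))
    (hb : ∀ (V : Y.Etale) (g : V ⟶ V₀) (v : V.left), g.left v = v₀ →
      plc (ZMod ℓ) V.hom (le_refl (V.hom ⁻¹ᵁ O)) (n + 1) b ≠ 0) :
    ∃ (ν : ℤ) (V : Y.Etale) (g : V ⟶ V₀) (v : V.left), g.left v = v₀ ∧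
      plc (ZMod ℓ) V.hom (le_refl (V.hom ⁻¹ᵁ O)) (n + 1) (a - ν • b) = 0 := by
  let F := EtCoh.const Y (ZMod ℓ)
  let R : InjectiveResolution F := injectiveResolution F
  obtain ⟨α, hα, rfl⟩ := R.extMk_surjective a (n + 1 + 1) rfl
  obtain ⟨β, hβ, rfl⟩ := R.extMk_surjective b (n + 1 + 1) rfl
  let E : EtCoh.Ab Y := (KK O R).homology (n + 1)
  let e : (EtDual.locCoh O.ι (n + 1)).obj F ≅ E := R.isoRightDerivedObj (EtDual.secSupp O.ι) (n + 1)
  obtain ⟨ψ₀⟩ := hpur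
  let ψ : EtCoh.restr E V₀ ≅ EtCoh.restr (PP i (ZMod ℓ)) V₀ :=
    (Y.smallEtaleTopology.overPullback AddCommGrpCat.{u + 1} V₀).mapIso e.symm ≪≫ ψ₀
  let s : EtCoh.sect E V₀ := E.obj.map (toTop V₀).op (one (zπ O ≫ sg R (n + 1) _ rfl α hα))
  let t : EtCoh.sect E V₀ := E.obj.map (toTop V₀).op (one (zπ O ≫ sg R (n + 1) _ rfl β hβ))
  have htop : ∀ {T : Y.Etale} (g : T ⟶ V₀) (z : EtCoh.sect E (EtCoh.top Y)),
      E.obj.map g.op (E.obj.map (toTop V₀).op z) = E.obj.map (toTop T).op z := by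
    intro T g z
    rw [← res_comp, toTop_ext (g ≫ toTop V₀) (toTop T)]
  have hplc : ∀ (W : Y.Etale) (z : HS (ZMod ℓ) O (n + 1)),
      ExtCmp.cmp (EtCoh.pull W.hom) (bq W.hom (le_refl (W.hom ⁻¹ᵁ O))) F (n + 1) z = 0 →
      plc (ZMod ℓ) W.hom (le_refl (W.hom ⁻¹ᵁ O)) (n + 1) z = 0 := by
    intro W z hz
    refine (congrArg (fun y => hzmap (W.hom ⁻¹ᵁ O) (EtCore.pullConst W.hom (ZMod ℓ)).hom (n + 1) y)
      hz).trans ?_
    exact map_zero _
  obtain ⟨ν, T, g, x, hx, h0⟩ := exists_multiple ψ v₀ s t (by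
    intro T g x hx h0
    obtain ⟨W, g', w, hw, hW⟩ := exists_killed R rfl rfl β hβ T ((htop g _).symm.trans h0) x
    refine hb W (g' ≫ g) w ?_ (hplc W _ hW)
    exact (left_comp g' g w).trans ((congrArg g.left hw).trans hx))
  have hαβ : (α - ν • β) ≫ R.cocomplex.d (n + 1) (n + 1 + 1) = 0 := by
    rw [Preadditive.sub_comp, Preadditive.zsmul_comp, hα, hβ, smul_zero, sub_zero]
  have h1 : E.obj.map (toTop T).op (one (zπ O ≫ sg R (n + 1) _ rfl (α - ν • β) hαβ)) = 0 := by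
    have h2 : one (zπ O ≫ sg R (n + 1) _ rfl (α - ν • β) hαβ) =
        one (zπ O ≫ sg R (n + 1) _ rfl α hα) - ν • one (zπ O ≫ sg R (n + 1) _ rfl β hβ) := by
      rw [liftCycles_add R rfl α β hα hβ ν hαβ, Preadditive.comp_sub, Preadditive.comp_zsmul]
      exact ((oneHom _).map_sub _ _).trans (congrArg (fun y => _ - y) ((oneHom _).map_zsmul _ _))
    rw [h2, ← htop g, map_sub, map_zsmul]
    exact h0
  obtain ⟨W, g', w, hw, hW⟩ := exists_killed R rfl rfl (α - ν • β) hαβ T h1 x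
  refine ⟨ν, W, g' ≫ g, w, (left_comp g' g w).trans ((congrArg g.left hw).trans hx), ?_⟩
  refine hplc W _ ?_
  rw [← extMk_sub_zsmul R rfl α β hα hβ ν hαβ] at hW
  exact hW

end Main

end

end Groth.Agent.Sga4h.H556.Pur
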