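import Groth.Agent.Sga4h.H556.ExcPt
import Groth.Agent.Sga4h.H556.Pur

/-!
# Geometry of `X × X` and `X × N`, slices
-/

set_option autoImplicit false
universe u
open CategoryTheory CategoryTheory.Limits AlgebraicGeometry Opposite Abelian
open Groth.Agent.Sga4B.DualShape Groth.Agent.EtpbcA Groth.Agent.Sga4B.DiagB
open scoped Groth.Agent.Etcore.EtInst
open Groth.Agent.Etcore.EtInst

namespace Groth.Agent.Sga4h.H556.Geo

open Groth.Agent.Sga4B Groth.Agent.Etcore Groth.Agent.Sga4h.H556.Supp Groth.Agent.Sga4h.H556.Glue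
open Groth.Agent.Sga4h.H556.Exc Groth.Agent.Sga4h.H556.Cl Groth.Agent.Sga4h.H556.Decomp
open Groth.Agent.Sga4h.H556.DatCl Groth.Agent.Sga4h.H556.SimpleDat Groth.Agent.Sga4h.H556.MultA
open Groth.Agent.Sga4h.H556.ExcPt
open Groth.Agent.Sga4h.H13

noncomputable section

variable {k : Type u} [Field k] {X : Scheme.{u}} (p : X ⟶ Spec (CommRingCat.of k))

/-! ### Points of `X × X` -/

/-- The complement of the diagonal. -/
def OD [IsSeparated p] : (pullback p p).Opens :=
  ⟨(Set.range (pullback.diagonal p))ᶜ,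
    (pullback.diagonal p).isClosedEmbedding.isClosed_range.isOpen_compl⟩

theorem notMem_OD [IsSeparated p] (y : ↥(pullback p p)) :
    y ∉ OD p ↔ y ∈ Set.range (pullback.diagonal p) := not_not

/-- `(a, b) ↦ (b, a)`, `X × N ⟶ X × X`. -/
def sw (N : X.Opens) : pullback p (N.ι ≫ p) ⟶ pullback p p :=
  pullback.lift (pullback.snd p (N.ι ≫ p) ≫ N.ι) (pullback.fst p (N.ι ≫ p)) (by
    rw [Category.assoc, ← pullback.condition])

@[reassoc (attr := simp)]
theorem sw_fst (N : X.Opens) : sw p N ≫ pullback.fst p p = pullback.snd p (N.ι ≫ p) ≫ N.ι :=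
  pullback.lift_fst _ _ _

@[reassoc (attr := simp)]
theorem sw_snd (N : X.Opens) : sw p N ≫ pullback.snd p p = pullback.fst p (N.ι ≫ p) :=
  pullback.lift_snd _ _ _

theorem isPullback_sw (N : X.Opens) :
    IsPullback (sw p N) (pullback.snd p (N.ι ≫ p)) (pullback.fst p p) N.ι := by
  refine IsPullback.of_right (h₁₂ := pullback.snd p p) (v₁₃ := p) (h₂₂ := p) ?_ (sw_fst p N)
    (IsPullback.of_hasPullback p p).flip
  rw [sw_snd]
  exact IsPullback.of_hasPullback p (N.ι ≫ p)

instance (N : X.Opens) : IsOpenImmersion (sw p N) :=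
  MorphismProperty.of_isPullback (isPullback_sw p N).flip inferInstance

@[reassoc (attr := simp)]
theorem graph_fst (N : X.Opens) : graph p N ≫ pullback.fst p (N.ι ≫ p) = N.ι :=
  pullback.lift_fst _ _ _

@[reassoc (attr := simp)]
theorem graph_snd (N : X.Opens) : graph p N ≫ pullback.snd p (N.ι ≫ p) = 𝟙 _ :=
  pullback.lift_snd _ _ _

@[reassoc]
theorem graph_sw (N : X.Opens) : graph p N ≫ sw p N = N.ι ≫ pullback.diagonal p := by
  apply pullback.hom_ext
  · rw [Category.assoc, sw_fst, graph_snd_assoc, Category.assoc, pullback.diagonal_fst,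
      Category.comp_id]
  · rw [Category.assoc, sw_snd, graph_fst, Category.assoc, pullback.diagonal_snd,
      Category.comp_id]

theorem mem_range_graph (N : X.Opens) (y : ↥(pullback p (N.ι ≫ p)))
    (h : sw p N y ∈ Set.range (pullback.diagonal p)) : y ∈ Set.range (graph p N) := by
  obtain ⟨x, hx⟩ := h
  have h1 : x = N.ι (pullback.snd p (N.ι ≫ p) y) := by
    rw [← Scheme.Hom.comp_apply, ← sw_fst, Scheme.Hom.comp_apply, ← hx, ← Scheme.Hom.comp_apply,
      pullback.diagonal_fst]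
    rfl
  refine ⟨pullback.snd p (N.ι ≫ p) y, ?_⟩
  apply (sw p N).isOpenEmbedding.injective
  rw [← Scheme.Hom.comp_apply, graph_sw, Scheme.Hom.comp_apply, ← h1, hx]

theorem le_sw [IsSeparated p] (N : X.Opens) (O : (pullback p (N.ι ≫ p)).Opens)
    (hO : ∀ y, y ∉ O ↔ y ∈ Set.range (graph p N)) : O ≤ sw p N ⁻¹ᵁ OD p := by
  intro y hy
  by_contra h
  exact (hO y).2 (mem_range_graph p N y ((notMem_OD p _).1 h)) hy

/-! ### Slices -/

/-- The slice `x ↦ (s, x)`. -/
def sl (s : Spec (CommRingCat.of k) ⟶ X) (hs : s ≫ p = 𝟙 _) : X ⟶ pullback p p :=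
  pullback.lift (p ≫ s) (𝟙 X) (by rw [Category.assoc, hs, Category.comp_id, Category.id_comp])

@[reassoc (attr := simp)]
theorem sl_fst (s : Spec (CommRingCat.of k) ⟶ X) (hs : s ≫ p = 𝟙 _) :
    sl p s hs ≫ pullback.fst p p = p ≫ s := pullback.lift_fst _ _ _

@[reassoc (attr := simp)]
theorem sl_snd (s : Spec (CommRingCat.of k) ⟶ X) (hs : s ≫ p = 𝟙 _) :
    sl p s hs ≫ pullback.snd p p = 𝟙 X := pullback.lift_snd _ _ _

theorem fib_sw (N : X.Opens) (s : Spec (CommRingCat.of k) ⟶ N.toScheme) (hs : s ≫ N.ι ≫ p = 𝟙 _) :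
    fib p (N.ι ≫ p) s hs ≫ sw p N = sl p (s ≫ N.ι) (by rw [Category.assoc, hs]) := by
  apply pullback.hom_ext
  · rw [Category.assoc, sw_fst, fib_snd_assoc, sl_fst]
  · rw [Category.assoc, sw_snd, fib_fst, sl_snd]

theorem eq_of_sl_mem (s : Spec (CommRingCat.of k) ⟶ X) (hs : s ≫ p = 𝟙 _) (y : X)
    (h : sl p s hs y ∈ Set.range (pullback.diagonal p)) : y = s default := by
  obtain ⟨x, hx⟩ := h
  have h1 : x = y := by
    have e1 : pullback.snd p p (pullback.diagonal p x) = x := by
      rw [← Scheme.Hom.comp_apply, pullback.diagonal_snd]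
      rfl
    have e2 : pullback.snd p p (sl p s hs y) = y := by
      rw [← Scheme.Hom.comp_apply, sl_snd]
      rfl
    rw [← e1, hx, e2]
  have h2 : x = s (p y) := by
    have e1 : pullback.fst p p (pullback.diagonal p x) = x := by
      rw [← Scheme.Hom.comp_apply, pullback.diagonal_fst]
      rfl
    have e2 : pullback.fst p p (sl p s hs y) = s (p y) := by
      rw [← Scheme.Hom.comp_apply, sl_fst, Scheme.Hom.comp_apply]
    rw [← e1, hx, e2]
  rw [← h1, h2, Subsingleton.elim (p y) default]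

theorem isClosed_pt [IsSeparated p] (s : Spec (CommRingCat.of k) ⟶ X) (hs : s ≫ p = 𝟙 _) :
    IsClosed {s default} := by
  have h1 : IsClosedImmersion (s ≫ p) := by
    rw [hs]
    infer_instance
  have h2 : IsClosedImmersion s := IsClosedImmersion.of_comp s p
  have h3 : ({s default} : Set X) = Set.range s := by
    ext z
    constructor
    · rintro rfl
      exact ⟨_, rfl⟩
    · rintro ⟨a, rfl⟩
      rw [Subsingleton.elim a default]
      rfl
  rw [h3]
  exact s.isClosedEmbedding.isClosed_range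

theorem le_sl [IsSeparated p] (s : Spec (CommRingCat.of k) ⟶ X) (hs : s ≫ p = 𝟙 _) :
    Opt (s default) ≤ sl p s hs ⁻¹ᵁ OD p := by
  intro y hy
  by_contra h
  exact (notMem_Opt (isClosed_pt p s hs) y).2 (eq_of_sl_mem p s hs y ((notMem_OD p _).1 h)) hy

end

end Groth.Agent.Sga4h.H556.Geo
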