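import Groth.Agent.Sga4h.H556.GeoH
import Groth.Agent.Sga4h.H564.ConsPBC
import Groth.Agent.S3101

/-!
# GEO: the degree of `(f,1)^* [Δ]` is the number of fixed points
-/

set_option autoImplicit false
universe u
open CategoryTheory CategoryTheory.Limits AlgebraicGeometry Opposite Abelian
open Groth.Agent.Sga4B.DualShape
open scoped Groth.Agent.Etcore.EtInst
open Groth.Agent.Etcore.EtInst

namespace Groth.Agent.Sga4h.H556.GeoFinal

open Groth.Agent.Sga4h.H556.Supp Groth.Agent.Sga4h.H556.SimpleDat Groth.Agent.Sga4h.H556.PurFrom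
open Groth.Agent.Sga4h.H556.Geo Groth.Agent.Sga4h.H556.Fixed Groth.Agent.Sga4h.H556.GeoFinal0

noncomputable section

variable {k : Type u} [Field k] {X : Scheme.{u}} {p : X ⟶ Spec (CommRingCat.of k)}

theorem purityStmt : PurityStmt.{u} := by
  intro X Y U S f h i m c hc _ _ _ w j _ hU _ _ n hn F hF hFn
  exact Groth.Agent.S3101.result f h i m c hc w j hU n hn F hF hFn

/-- **GEO.** -/
theorem geo [IsAlgClosed k] [IsProper p] [ConnectedSpace X] {d ℓ : ℕ}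
    [SmoothOfRelativeDimension d p] [Fact ℓ.Prime] (hℓ : (ℓ : k) ≠ 0)
    (c : HH (pullback p p) (EtCoh.const _ (ZMod ℓ)) (2 * d))
    (hc0 : hc (ZMod ℓ) (OD p).ι (2 * d) c = 0)
    (deg : HH X (EtCoh.const X (ZMod ℓ)) (2 * d) →+ ZMod ℓ)
    (hslice : ∀ (s : Spec (CommRingCat.of k) ⟶ X) (hs : s ≫ p = 𝟙 _),
      deg (hc (ZMod ℓ) (sl p s hs) (2 * d) c) = 1)
    (f : X ⟶ X) (hf : f ≫ p = p) [IsFinite (FinFr.fixSchemeTo p f hf)] :
    deg (hc (ZMod ℓ) (gr p f hf) (2 * d) c) = (FinFr.fixCount p f hf : ZMod ℓ) :=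
  have : NeZero ℓ := ⟨(Fact.out : ℓ.Prime).ne_zero⟩
  geo0 hℓ purityStmt (Groth.Agent.Sga4h.H564.ConsPBC.cons p (ZMod ℓ)) c hc0 deg hslice f hf

/-- **GEO**, in terms of `EtCoh.H` and `HpullConst`. -/
theorem geo_H [IsAlgClosed k] [IsProper p] [ConnectedSpace X] {d ℓ : ℕ}
    [SmoothOfRelativeDimension d p] [Fact ℓ.Prime] (hℓ : (ℓ : k) ≠ 0)
    (O : (pullback p p).Opens) (hO : (O : Set ↥(pullback p p)) = (Set.range (pullback.diagonal p))ᶜ)
    (c : EtCoh.H (pullback p p) (EtCoh.const _ (ZMod ℓ)) (2 * d))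
    (hc0 : HpullConst O.ι (ZMod ℓ) (2 * d) c = 0)
    (deg : EtCoh.H X (EtCoh.const X (ZMod ℓ)) (2 * d) →+ ZMod ℓ)
    (hslice : ∀ (s : Spec (CommRingCat.of k) ⟶ X) (x : X ⟶ pullback p p) (_ : s ≫ p = 𝟙 _)
      (_ : x ≫ pullback.fst p p = p ≫ s) (_ : x ≫ pullback.snd p p = 𝟙 X),
      deg (HpullConst x (ZMod ℓ) (2 * d) c) = 1)
    (f : X ⟶ X) (hf : f ≫ p = p) [IsFinite (FinFr.fixSchemeTo p f hf)] (g : X ⟶ pullback p p)
    (hg : g ≫ pullback.fst p p = f) (hg' : g ≫ pullback.snd p p = 𝟙 X) :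
    deg (HpullConst g (ZMod ℓ) (2 * d) c) = (FinFr.fixCount p f hf : ZMod ℓ) :=
  have : NeZero ℓ := ⟨(Fact.out : ℓ.Prime).ne_zero⟩
  GeoH.geo_H hℓ purityStmt (Groth.Agent.Sga4h.H564.ConsPBC.cons p (ZMod ℓ)) O hO c hc0 deg hslice
    f hf g hg hg'

end

end Groth.Agent.Sga4h.H556.GeoFinal
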