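import Groth.Agent.Sga4h.H556.Supp
import Groth.Agent.Etcore.HpullEq

/-!
# `hc M g m` is `DualShape.HpullConst g M m` (conversion lemma)
-/

set_option autoImplicit false
universe u
open CategoryTheory CategoryTheory.Limits AlgebraicGeometry Opposite Abelian
open Groth.Agent.Sga4B.DualShape
open scoped Groth.Agent.Etcore.EtInst
open Groth.Agent.Etcore.EtInst

namespace Groth.Agent.Sga4h.H556.Supp

open Groth.Agent.Etcore

variable {X Y : Scheme.{u}}

theorem HpullConst_apply (M : Type) [AddCommGroup M] (g : X ⟶ Y) (m : ℕ)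
    (x : HH Y (EtCoh.const Y M) m) :
    @Eq (HH X (EtCoh.const X M) m) (HpullConst g M m x) (hc M g m x) := by
  rw [hc_apply, ← HpullCalc.Hpull_apply_eq_hp]
  rfl

end Groth.Agent.Sga4h.H556.Supp
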