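import Groth.Agent.Sga4h.H556.PurFrom
import Groth.Agent.Sga4h.H556.CoordEx
import Groth.Agent.Sga4h.H556.HcEq
import Groth.Agent.Sga4h.H13.FamA
import Groth.Agent.Sga4h.H13.FamB
import Groth.Agent.Sga4h.H13.FamC
import Groth.Agent.Sga4h.H13.FamD
import Groth.Agent.Sga1.EtaleSection
import Groth.Agent.Ega1.GenPts
import Groth.Agent.Sga4B.SmoothNormal

/-!
# GEO in all dimensions, modulo the purity theorem and conservation of number
-/

set_option autoImplicit false
universe u
open CategoryTheory CategoryTheory.Limits AlgebraicGeometry Opposite Abelian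
open Groth.Agent.Sga4B.DualShape Groth.Agent.EtpbcA Groth.Agent.Sga4B.DiagB
open scoped Groth.Agent.Etcore.EtInst
open Groth.Agent.Etcore.EtInst

namespace Groth.Agent.Sga4h.H556.GeoFinal0

open Groth.Agent.Sga4B Groth.Agent.Etcore Groth.Agent.Sga4h.H556.Supp
open Groth.Agent.Sga4h.H556.SimpleDat Groth.Agent.Sga4h.H556.PurFrom
open Groth.Agent.Sga4h.H556.Geo Groth.Agent.Sga4h.H556.Fixed Groth.Agent.Sga4h.H556.GeoMain
open Groth.Agent.Sga4h.H13

noncomputable section

variable {k : Type u} [Field k] {X : Scheme.{u}} {p : X ⟶ Spec (CommRingCat.of k)}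

/-- A connected smooth scheme over a field is irreducible. -/
theorem irreducibleSpace_of_smooth [Smooth p] [ConnectedSpace X] : IrreducibleSpace X := by
  have h1 : IsLocallyNoetherian X := LocallyOfFiniteType.isLocallyNoetherian p
  have h2 : IsIntegral X := by
    rw [Groth.Agent.Ega1.GenPts.isIntegral_iff]
    exact ⟨inferInstance, fun x =>
      (Groth.Agent.Sga4B.SmoothNormal.isNormalScheme_of_smooth p x).1⟩
  infer_instance

/-- A connected separated étale scheme over an algebraically closed field is a point. -/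
theorem isIso_of_etale [IsAlgClosed k] [Etale p] [IsSeparated p] [ConnectedSpace X] : IsIso p := by
  have hJ : JacobsonSpace X := LocallyOfFiniteType.jacobsonSpace p
  obtain ⟨x₀, hx₀⟩ : (closedPoints X).Nonempty := by
    have h := nonempty_inter_closedPoints (X := X) (Z := Set.univ) Set.univ_nonempty
      isClosed_univ.isLocallyClosed
    rwa [Set.univ_inter] at h
  let s := pointOfClosedPoint p x₀ hx₀
  have hs : s ≫ p = 𝟙 _ := pointOfClosedPoint_comp p x₀ hx₀
  have h1 : IsOpenImmersion s := Groth.Agent.Sga1.EtaleSection.isOpenImmersion_section p s hs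
  have h2 : IsClosedImmersion s := by
    have : IsClosedImmersion (s ≫ p) := by
      rw [hs]
      infer_instance
    exact IsClosedImmersion.of_comp s p
  have h3 : Surjective s := by
    refine ⟨Set.range_eq_univ.1 ?_⟩
    exact IsClopen.eq_univ ⟨s.isClosedEmbedding.isClosed_range, s.isOpenEmbedding.isOpen_range⟩
      ⟨_, default, rfl⟩
  have h4 : IsIso s := (isIso_iff_isOpenImmersion_and_surjective s).2 ⟨inferInstance, h3⟩
  have h5 : IsIso (s ≫ p) := by
    rw [hs]
    infer_instance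
  exact IsIso.of_isIso_comp_left s p

theorem gdim_id : gdim (𝟙 (Spec (CommRingCat.of k))) = 1 := by
  let _ : Algebra k (Γ(Spec (CommRingCat.of k), ⊤) : Type u) :=
    RingHom.toAlgebra ((Scheme.ΓSpecIso (CommRingCat.of k)).inv ≫
      (𝟙 (Spec (CommRingCat.of k)) : Spec (CommRingCat.of k) ⟶ _).appTop).hom
  change Module.finrank k (Γ(Spec (CommRingCat.of k), ⊤) : Type u) = 1
  have hb : Function.Bijective (algebraMap k (Γ(Spec (CommRingCat.of k), ⊤) : Type u)) := by
    have h : IsIso ((Scheme.ΓSpecIso (CommRingCat.of k)).inv ≫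
      (𝟙 (Spec (CommRingCat.of k)) : Spec (CommRingCat.of k) ⟶ _).appTop) := by
      rw [Scheme.Hom.id_appTop]
      infer_instance
    exact ConcreteCategory.bijective_of_isIso ((Scheme.ΓSpecIso (CommRingCat.of k)).inv ≫
      (𝟙 (Spec (CommRingCat.of k)) : Spec (CommRingCat.of k) ⟶ _).appTop)
  let e : k ≃ₗ[k] (Γ(Spec (CommRingCat.of k), ⊤) : Type u) :=
    LinearEquiv.ofBijective (Algebra.linearMap k _) hb
  rw [← e.finrank_eq, Module.finrank_self]

theorem fixCount_of_isIso [IsIso p] (f : X ⟶ X) (hf : f ≫ p = p) :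
    FinFr.fixCount p f hf = 1 := by
  obtain rfl : f = 𝟙 X := by
    rw [← cancel_mono p, hf, Category.id_comp]
  rw [fixCount_eq, ← gdim_id (k := k)]
  have h1 : Mono (pullback.lift (𝟙 X) (𝟙 X) rfl : X ⟶ pullback p p) :=
    mono_of_mono_fac (pullback.lift_fst (𝟙 X) (𝟙 X) rfl)
  have h2 : IsIso (FinFr.fixSchemeTo p (𝟙 X) hf) := by
    have : IsIso (pullback.fst (pullback.lift (𝟙 X) (𝟙 X) rfl : X ⟶ pullback p p)
      (pullback.lift (𝟙 X) (𝟙 X) rfl : X ⟶ pullback p p) ≫ p) := inferInstance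
    exact this
  exact gdim_of_iso (FinFr.fixSchemeTo p (𝟙 X) hf) _ _ (Category.comp_id _)

/-- **GEO**, all dimensions. -/
theorem geo0 [IsAlgClosed k] [IsSeparated p] [ConnectedSpace X] {d ℓ : ℕ}
    [SmoothOfRelativeDimension d p] [Fact ℓ.Prime] (hℓ : (ℓ : k) ≠ 0)
    (hP : PurityStmt.{u}) (hcons : Cons p (ZMod ℓ))
    (c : HH (pullback p p) (EtCoh.const _ (ZMod ℓ)) (2 * d))
    (hc0 : hc (ZMod ℓ) (OD p).ι (2 * d) c = 0)
    (deg : HH X (EtCoh.const X (ZMod ℓ)) (2 * d) →+ ZMod ℓ)
    (hslice : ∀ (s : Spec (CommRingCat.of k) ⟶ X) (hs : s ≫ p = 𝟙 _),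
      deg (hc (ZMod ℓ) (sl p s hs) (2 * d) c) = 1)
    (f : X ⟶ X) (hf : f ≫ p = p) [IsFinite (FinFr.fixSchemeTo p f hf)] :
    deg (hc (ZMod ℓ) (gr p f hf) (2 * d) c) = (FinFr.fixCount p f hf : ZMod ℓ) := by
  have hsm : Smooth p := SmoothOfRelativeDimension.smooth d p
  rcases Nat.eq_zero_or_pos d with hd | hd
  · subst hd
    have het : Etale p := by
      rw [Etale.iff_smoothOfRelativeDimension_zero]
      infer_instance
    have hiso : IsIso p := isIso_of_etale
    obtain rfl : f = 𝟙 X := by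
      rw [← cancel_mono p, hf, Category.id_comp]
    rw [fixCount_of_isIso, Nat.cast_one, ← hslice (inv p) (IsIso.inv_hom_id p)]
    have h1 : gr p (𝟙 X) hf = sl p (inv p) (IsIso.inv_hom_id p) := by
      apply pullback.hom_ext
      · rw [gr_fst, sl_fst, IsIso.hom_inv_id]
      · rw [gr_snd, sl_snd]
    exact congrArg (fun g => deg (hc (ZMod ℓ) g (2 * 0) c)) h1
  · have hirr : IrreducibleSpace X := irreducibleSpace_of_smooth (p := p)
    exact geo (stmtA k) (stmtB k) (stmtC k) (stmtD k) hd hcons (CoordEx.exists_coord p d)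
      (purHyp hP hd hℓ) c hc0 deg hslice f hf

end

end Groth.Agent.Sga4h.H556.GeoFinal0
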