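import Groth.Agent.Sga4h.H556.Fixed

/-!
# GEO: the degree of `(f,1)^* [Δ]` is the number of fixed points
-/

set_option autoImplicit false
universe u
open CategoryTheory CategoryTheory.Limits AlgebraicGeometry Opposite Abelian
open Groth.Agent.Sga4B.DualShape Groth.Agent.EtpbcA Groth.Agent.Sga4B.DiagB
open scoped Groth.Agent.Etcore.EtInst
open Groth.Agent.Etcore.EtInst

namespace Groth.Agent.Sga4h.H556.GeoMain

open Groth.Agent.Sga4B Groth.Agent.Etcore Groth.Agent.Sga4h.H556.Supp Groth.Agent.Sga4h.H556.Glue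
open Groth.Agent.Sga4h.H556.Exc Groth.Agent.Sga4h.H556.Cl Groth.Agent.Sga4h.H556.Decomp
open Groth.Agent.Sga4h.H556.DatCl Groth.Agent.Sga4h.H556.SimpleDat Groth.Agent.Sga4h.H556.MultA
open Groth.Agent.Sga4h.H556.ExcPt Groth.Agent.Sga4h.H556.Geo Groth.Agent.Sga4h.H556.Pur
open Groth.Agent.Sga4h.H556.Nu Groth.Agent.Sga4h.H556.Kappa Groth.Agent.Sga4h.H556.Fixed
open Groth.Agent.Sga4h.H13

noncomputable section

variable {k : Type u} [Field k] [IsAlgClosed k] {X : Scheme.{u}} {p : X ⟶ Spec (CommRingCat.of k)}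
  [IsSeparated p] [LocallyOfFiniteType p] {d ℓ : ℕ} [Fact ℓ.Prime]

section Local

variable {f : X ⟶ X} (hf : f ≫ p = p) {U : X.Opens}
  {N : X.Opens} (h₁ : N ≤ U) (h₂ : N ≤ f ⁻¹ᵁ U) {t : U.toScheme ⟶ Aff k d}
  (D : Dat (pullback.fst p (U.ι ≫ p) ≫ p) d)
  (hDW : D.W ≤ pullback.fst p (U.ι ≫ p) ⁻¹ᵁ U)
  (hDΦ : D.Φ = sub ((pullback p (U.ι ≫ p)).homOfLE hDW ≫ (pullback.fst p (U.ι ≫ p) ∣_ U) ≫ t)
        (D.W.ι ≫ pullback.snd p (U.ι ≫ p) ≫ t))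
  (hZ : D.Z = Set.range (graph p U)) (hN : ∀ z : N, gam hf h₂ z ∈ D.W)

include hDW hDΦ hZ hN in
/-- The contribution of one fixed point. -/
theorem deg_local (hd : 0 < d) (hA : StmtA k) (hcons : Cons p (ZMod ℓ)) [Etale t]
    (ht : t ≫ Aff.str k d = U.ι ≫ p)
    (c : HS (ZMod ℓ) (OD p) (2 * d))
    (deg : HH X (EtCoh.const X (ZMod ℓ)) (2 * d) →+ ZMod ℓ)
    (hslice : ∀ (s : Spec (CommRingCat.of k) ⟶ X) (hs : s ≫ p = 𝟙 _),
      deg (hc (ZMod ℓ) (sl p s hs) (2 * d) (fg _ _ _ c)) = 1)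
    {κ : HS (ZMod ℓ) (O0 k d) (2 * d)} {η : HH X (EtCoh.const X (ZMod ℓ)) (2 * d)}
    (hη : ∀ {y : X ⟶ Spec (CommRingCat.of k)} (_ : y = p) (D : Dat y d) (x : X), Simple D x →
      clD D (ZMod ℓ) κ = η) (hη1 : deg η = 1)
    (s : Spec (CommRingCat.of k) ⟶ U.toScheme) (hs : s ≫ U.ι ≫ p = 𝟙 _)
    (hsim : Simple (D.pull (fib p (U.ι ≫ p) s hs)) ((s ≫ U.ι) default))
    (hpur : PurAt p d ℓ U D.compl (s default))
    (x : X) (hxs : (s ≫ U.ι) default = x) (hx : x ∈ N) (hxf : x ∈ FixS p f hf)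
    (huniq : ∀ z : N, (z : X) ∈ FixS p f hf → (z : X) = x)
    (z : HS (ZMod ℓ) (Opt x) (2 * d))
    (hle : N.ι ⁻¹ᵁ Opt x ≤ (N.ι ≫ gr p f hf) ⁻¹ᵁ OD p)
    (hz : plc (ZMod ℓ) N.ι (le_refl (N.ι ⁻¹ᵁ Opt x)) (2 * d) z =
      plc (ZMod ℓ) (N.ι ≫ gr p f hf) hle (2 * d) c) :
    deg (fg _ _ _ z) = (mult (psi (f := f) h₁ h₂ t) : ZMod ℓ) := by
  have hcl : IsClosed {x} := by
    rw [← hxs]
    exact isClosed_pt p (s ≫ U.ι) (by rw [Category.assoc, hs])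
  have hOD : ∀ y, y ∉ D.compl ↔ y ∈ Set.range (graph p U) := fun y => by
    rw [mem_compl_iff, not_not, hZ]
  obtain ⟨ν, hν, V, v, hv, h0⟩ := exists_nu hd c deg hslice hη hη1 U D hZ s hs hsim hpur
  -- the datum on `X` given by `psi`
  let ψ : N.toScheme ⟶ Aff k d := psi (f := f) h₁ h₂ t
  have hψ : ψ = psi (f := f) h₁ h₂ t := rfl
  have hlam : lam hf h₂ D hN ≫ D.Φ = ψ := lam_Φ hf h₁ h₂ D hDW hDΦ hN
  have hzer : ∀ n : N, n ∈ zeros ψ ↔ (n : X) ∈ FixS p f hf :=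
    mem_zeros_psi hf h₁ h₂ D hDW hDΦ hZ hN
  have hzer' : zeros ψ = {(⟨x, hx⟩ : N)} := by
    ext n
    refine (hzer n).trans ?_
    constructor
    · intro h
      exact Subtype.ext (huniq n h)
    · intro h
      have h' : n = ⟨x, hx⟩ := h
      rw [h']
      exact hxf
  have hover : ψ ≫ Aff.str k d = N.ι ≫ p := by
    rw [hψ, sub_str, Category.assoc, ht, Scheme.homOfLE_ι_assoc]
  have hZψ : N.ι '' zeros ψ = {x} := by
    rw [hzer']
    ext y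
    constructor
    · rintro ⟨n, hn, rfl⟩
      have h' : n = ⟨x, hx⟩ := hn
      rw [h']
      rfl
    · intro hy
      exact ⟨⟨x, hx⟩, rfl, hy.symm⟩
  let Dψ : Dat p d := ⟨N, ψ, hover, by rw [hZψ]; exact hcl⟩
  have hDψZ : Dψ.Z = {x} := hZψ
  have hmult : clD Dψ (ZMod ℓ) κ = mult ψ • η :=
    clD_eq_mult hη hA hcons N (X.homOfLE h₁ ≫ t) ψ
      (by rw [Category.assoc, ht, Scheme.homOfLE_ι_assoc]) hover ⟨x, hx⟩ hzer' Dψ (of_self Dψ) hx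
  have hWO' : N ⊔ Opt x = ⊤ := by
    rw [eq_top_iff]
    intro y _
    rw [TopologicalSpace.Opens.mem_sup]
    by_cases hy : y = x
    · exact Or.inl (hy ▸ hx)
    · exact Or.inr (by
        by_contra h
        exact hy ((notMem_Opt hcl y).1 h))
  have hOpt : Opt x ≤ Dψ.compl := by
    intro y hy hy'
    rw [hDψZ] at hy'
    exact (notMem_Opt hcl y).2 hy' hy
  have hΦ' : N.ι ⁻¹ᵁ Opt x ≤ ψ ⁻¹ᵁ (O0 k d) := le_trans (fun y hy => hOpt hy) (hΦ Dψ)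
  have hcl' : cl (ZMod ℓ) κ hWO' ψ hΦ' = clD Dψ (ZMod ℓ) κ :=
    cl_congr (ZMod ℓ) κ hWO' ψ hΦ' (hWO Dψ) Dψ.Φ (hΦ Dψ) N (Opt x) (le_refl _) (le_refl _)
      (le_refl _) hOpt hWO' rfl
  -- comparison
  have hγ : N.ι ⁻¹ᵁ Opt x ≤ gam hf h₂ ⁻¹ᵁ D.compl := by
    intro n hn hn'
    have h1 : gam hf h₂ n ∈ Set.range (graph p U) := (hOD _).1 (fun h => h hn')
    exact (notMem_Opt hcl (N.ι n)).2 (huniq n ((gam_mem hf h₂ n).1 h1)) hn
  have hlamO : N.ι ⁻¹ᵁ Opt x ≤ lam hf h₂ D hN ⁻¹ᵁ (D.W.ι ⁻¹ᵁ D.compl) := by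
    have e : lam hf h₂ D hN ⁻¹ᵁ (D.W.ι ⁻¹ᵁ D.compl) = gam hf h₂ ⁻¹ᵁ D.compl := by
      rw [← Scheme.Hom.comp_preimage, lam_ι]
    rw [e]
    exact hγ
  have hcmp : z = ν • clz (ZMod ℓ) κ hWO' ψ hΦ' := by
    have hxx : gam hf h₂ (⟨x, hx⟩ : N) = graph p U (s default) := by
      obtain ⟨u, hu⟩ := (gam_mem hf h₂ (⟨x, hx⟩ : N)).2 hxf
      have h3 : U.ι u = x := by
        have e1 : pullback.fst p (U.ι ≫ p) (graph p U u) = U.ι u := by
          rw [← Scheme.Hom.comp_apply, graph_fst]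
        have e2 : pullback.fst p (U.ι ≫ p) (gam hf h₂ (⟨x, hx⟩ : N)) = x := by
          rw [← Scheme.Hom.comp_apply, gam_fst]
          rfl
        rw [← e1, hu, e2]
      have h4 : u = s default := by
        apply U.ι.isOpenEmbedding.injective
        rw [h3, ← hxs, Scheme.Hom.comp_apply]
      rw [← hu, h4]
    refine eq_zsmul_of_local (ZMod ℓ) p (Opt x) x hcl (fun y => (notMem_Opt hcl y).1) z _
      N.ι (gam hf h₂) (⟨x, hx⟩ : N) rfl _ (clzD D (ZMod ℓ) κ) hγ ?_ ?_ V v (hv.trans hxx.symm) ν h0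
    · rw [hz]
      exact (plc_plc (ZMod ℓ) (gam hf h₂) (sw p U) (N.ι ≫ gr p f hf) (gam_sw hf h₂)
        (le_sw p U D.compl hOD) hγ hle (2 * d) c).symm
    · rw [plc_clz, ← plc_plc (ZMod ℓ) (lam hf h₂ D hN) D.W.ι (gam hf h₂) (lam_ι hf h₂ D hN)
        (le_refl _) hlamO hγ, clzD, plc_clz,
        plc_plc (ZMod ℓ) (lam hf h₂ D hN) D.Φ ψ hlam (hΦ D) hlamO hΦ']
  rw [hcmp, map_zsmul, map_zsmul]
  have h5 : fg (Opt x) (EtCoh.const X (ZMod ℓ)) (2 * d) (clz (ZMod ℓ) κ hWO' ψ hΦ') = mult ψ • η := by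
    rw [← hmult, ← hcl', cl]
  rw [h5, map_nsmul, hη1, zsmul_eq_mul, hν, one_mul, nsmul_eq_mul, mul_one]

end Local

/-- Étale coordinates. -/
def Coord (p : X ⟶ Spec (CommRingCat.of k)) (d : ℕ) : Prop :=
  ∀ x : X, ∃ (N : X.Opens) (t : N.toScheme ⟶ Aff k d), x ∈ N ∧ Etale t ∧
    t ≫ Aff.str k d = N.ι ≫ p

/-- Local purity along the graphs. -/
def PurHyp (p : X ⟶ Spec (CommRingCat.of k)) (d ℓ : ℕ) : Prop :=
  ∀ (N : X.Opens) (O : (pullback p (N.ι ≫ p)).Opens) (z : N),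
    (∀ y, y ∉ O ↔ y ∈ Set.range (graph p N)) → PurAt p d ℓ N O z

omit [IsAlgClosed k] [LocallyOfFiniteType p] [IsSeparated p] in
theorem f_eq_of_mem {f : X ⟶ X} (hf : f ≫ p = p) {x : X} (hx : x ∈ FixS p f hf) : f x = x := by
  obtain ⟨y, hy⟩ := hx
  have e1 : pullback.fst p p (pullback.diagonal p y) = y := by
    rw [← Scheme.Hom.comp_apply, pullback.diagonal_fst]
    rfl
  have e2 : pullback.snd p p (pullback.diagonal p y) = y := by
    rw [← Scheme.Hom.comp_apply, pullback.diagonal_snd]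
    rfl
  have e3 : pullback.fst p p (gr p f hf x) = f x := by
    rw [← Scheme.Hom.comp_apply, gr_fst]
  have e4 : pullback.snd p p (gr p f hf x) = x := by
    rw [← Scheme.Hom.comp_apply, gr_snd]
    rfl
  rw [hy, e3] at e1
  rw [hy, e4] at e2
  rw [e1, e2]

theorem isConnected_opens [IrreducibleSpace X] (O : X.Opens) (x : X) (hx : x ∈ O) :
    ConnectedSpace O := by
  have h0 : Nonempty (O : Set X) := ⟨⟨x, hx⟩⟩
  have h1 : IrreducibleSpace O := O.isOpen.isOpenEmbedding_subtypeVal.irreducibleSpace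
  infer_instance

theorem exists_local_fixed (hA : StmtA k) (hC : StmtC k) [IrreducibleSpace X] (hd : 0 < d)
    (hcons : Cons p (ZMod ℓ)) (hcoord : Coord p d) (hpur : PurHyp p d ℓ)
    (c : HS (ZMod ℓ) (OD p) (2 * d))
    (deg : HH X (EtCoh.const X (ZMod ℓ)) (2 * d) →+ ZMod ℓ)
    (hslice : ∀ (s : Spec (CommRingCat.of k) ⟶ X) (hs : s ≫ p = 𝟙 _),
      deg (hc (ZMod ℓ) (sl p s hs) (2 * d) (fg _ _ _ c)) = 1)
    {κ : HS (ZMod ℓ) (O0 k d) (2 * d)} {η : HH X (EtCoh.const X (ZMod ℓ)) (2 * d)}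
    (hη : ∀ {y : X ⟶ Spec (CommRingCat.of k)} (_ : y = p) (D : Dat y d) (x : X), Simple D x →
      clD D (ZMod ℓ) κ = η) (hη1 : deg η = 1)
    (f : X ⟶ X) (hf : f ≫ p = p) (hfin : (FixS p f hf).Finite) (x : X) (hx : x ∈ FixS p f hf) :
    ∃ (U : X.Opens) (t : U.toScheme ⟶ Aff k d) (_ : Etale t) (_ : t ≫ Aff.str k d = U.ι ≫ p)
      (N : X.Opens) (_ : x ∈ N) (h₁ : N ≤ U) (h₂ : N ≤ f ⁻¹ᵁ U),
      N.ι '' zeros (psi (f := f) h₁ h₂ t) = {x} ∧ (∀ z : N, (z : X) ∈ FixS p f hf → (z : X) = x) ∧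
      ∀ (z : HS (ZMod ℓ) (Opt x) (2 * d))
        (hle : N.ι ⁻¹ᵁ Opt x ≤ (N.ι ≫ gr p f hf) ⁻¹ᵁ OD p)
        (_ : plc (ZMod ℓ) N.ι (le_refl (N.ι ⁻¹ᵁ Opt x)) (2 * d) z =
          plc (ZMod ℓ) (N.ι ≫ gr p f hf) hle (2 * d) c),
        deg (fg _ _ _ z) = (mult (psi (f := f) h₁ h₂ t) : ZMod ℓ) := by
  have hJ : JacobsonSpace X := LocallyOfFiniteType.jacobsonSpace p
  have hcl : IsClosed {x} := isClosed_of_finite (isClosed_FixS p f hf) hfin hx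
  obtain ⟨U, t, hxU, het, ht⟩ := hcoord x
  obtain ⟨s, hs, hsx⟩ := exists_pt (p := p) U x hxU hcl
  obtain ⟨D, hDW, hDΦ, hZ, hsl⟩ := hC p d U t ht
  have hfx : f x = x := f_eq_of_mem hf hx
  let M : X.Opens := U ⊓ f ⁻¹ᵁ U
  have hxM : x ∈ M := ⟨hxU, by
    change f x ∈ U
    rw [hfx]
    exact hxU⟩
  have hM₂ : M ≤ f ⁻¹ᵁ U := inf_le_right
  have hclr : IsClosed (FixS p f hf \ {x}) := by
    rw [← Set.biUnion_of_singleton (FixS p f hf \ {x})]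
    refine (hfin.subset Set.sdiff_subset).isClosed_biUnion (fun y hy => ?_)
    exact isClosed_of_finite (isClosed_FixS p f hf) hfin hy.1
  let N : X.Opens := M.ι ''ᵁ (gam hf hM₂ ⁻¹ᵁ D.W) ⊓ ⟨(FixS p f hf \ {x})ᶜ, hclr.isOpen_compl⟩
  have hNM : N ≤ M := by
    rintro _ ⟨⟨m, -, rfl⟩, -⟩
    exact m.2
  have h₁ : N ≤ U := hNM.trans inf_le_left
  have h₂ : N ≤ f ⁻¹ᵁ U := hNM.trans hM₂
  have hxN : x ∈ N := by
    refine ⟨⟨⟨x, hxM⟩, ?_, rfl⟩, fun h => h.2 rfl⟩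
    change gam hf hM₂ (⟨x, hxM⟩ : M) ∈ D.W
    apply D.Z_subset
    rw [hZ]
    exact (gam_mem hf hM₂ (⟨x, hxM⟩ : M)).2 hx
  have hgam : X.homOfLE hNM ≫ gam hf hM₂ = gam hf h₂ := by
    apply pullback.hom_ext
    · rw [Category.assoc, gam_fst, gam_fst, Scheme.homOfLE_ι]
    · rw [Category.assoc, gam_snd, gam_snd, Scheme.homOfLE_homOfLE_assoc]
  have hN : ∀ z : N, gam hf h₂ z ∈ D.W := by
    intro z
    obtain ⟨⟨m, hm, hmz⟩, -⟩ := z.2
    have h3 : X.homOfLE hNM z = m := by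
      apply M.ι.isOpenEmbedding.injective
      rw [← Scheme.Hom.comp_apply, Scheme.homOfLE_ι]
      exact hmz.symm
    have h4 : gam hf h₂ z = gam hf hM₂ m := by
      rw [← hgam, Scheme.Hom.comp_apply, h3]
    rw [h4]
    exact hm
  have huniq : ∀ z : N, (z : X) ∈ FixS p f hf → (z : X) = x := by
    intro z hz
    by_contra hne
    exact z.2.2 ⟨hz, hne⟩
  have hsim : Simple (D.pull (fib p (U.ι ≫ p) s hs)) ((s ≫ U.ι) default) := by
    refine ⟨?_, _, le_refl _, ?_, ?_⟩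
    · rw [(hsl s hs).1]
      ext z
      constructor
      · rintro ⟨a, rfl⟩
        rw [Subsingleton.elim a default]
        rfl
      · rintro rfl
        exact ⟨_, rfl⟩
    · apply Dat.Z_subset
      rw [(hsl s hs).1]
      exact ⟨_, rfl⟩
    · obtain ⟨a, ha⟩ := (hsl s hs).2
      rw [Scheme.homOfLE_rfl, Category.id_comp, ha]
      have := etale_sub t (U.ι ≫ p) ht (s ≫ t) (by rw [Category.assoc, ht, hs])
      infer_instance
  refine ⟨U, t, het, ht, N, hxN, h₁, h₂, ?_, huniq, fun z hle hz => ?_⟩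
  · ext y
    constructor
    · rintro ⟨n, hn, rfl⟩
      exact huniq n ((mem_zeros_psi hf h₁ h₂ D hDW hDΦ hZ hN n).1 hn)
    · intro hy
      exact ⟨⟨x, hxN⟩, (mem_zeros_psi hf h₁ h₂ D hDW hDΦ hZ hN _).2 hx, hy.symm⟩
  · exact deg_local hf h₁ h₂ D hDW hDΦ hZ hN hd hA hcons ht c deg hslice hη hη1 s hs hsim
      (hpur U D.compl (s default) (fun y => by rw [mem_compl_iff, not_not, hZ])) x hsx hxN hx huniq
      z hle hz

/-- **GEO.** -/
theorem geo (hA : StmtA k) (hB : StmtB k) (hC : StmtC k) (hD : StmtD k) [IrreducibleSpace X]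
    (hd : 0 < d) (hcons : Cons p (ZMod ℓ)) (hcoord : Coord p d) (hpur : PurHyp p d ℓ)
    (c : HH (pullback p p) (EtCoh.const _ (ZMod ℓ)) (2 * d))
    (hc0 : hc (ZMod ℓ) (OD p).ι (2 * d) c = 0)
    (deg : HH X (EtCoh.const X (ZMod ℓ)) (2 * d) →+ ZMod ℓ)
    (hslice : ∀ (s : Spec (CommRingCat.of k) ⟶ X) (hs : s ≫ p = 𝟙 _),
      deg (hc (ZMod ℓ) (sl p s hs) (2 * d) c) = 1)
    (f : X ⟶ X) (hf : f ≫ p = p) [IsFinite (FinFr.fixSchemeTo p f hf)] :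
    deg (hc (ZMod ℓ) (gr p f hf) (2 * d) c) = (FinFr.fixCount p f hf : ZMod ℓ) := by
  classical
  have hJ : JacobsonSpace X := LocallyOfFiniteType.jacobsonSpace p
  obtain ⟨c, rfl⟩ := exists_fg_const (OD p) (ZMod ℓ) (2 * d) c hc0
  -- the generator `κ`
  obtain ⟨x₀, hx₀⟩ : (closedPoints X).Nonempty := by
    have h := nonempty_inter_closedPoints (X := X) (Z := Set.univ) Set.univ_nonempty
      isClosed_univ.isLocallyClosed
    rwa [Set.univ_inter] at h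
  obtain ⟨N₀, t₀, hxN₀, het₀, ht₀⟩ := hcoord x₀
  obtain ⟨s₀, hs₀, hsx₀⟩ := exists_pt (p := p) N₀ x₀ hxN₀ hx₀
  obtain ⟨η₀, hη₀⟩ := exists_simple (M := ZMod ℓ) (m := 2 * d) (κ := 0) hC hcons N₀
    (isConnected_opens N₀ x₀ hxN₀) t₀ ht₀
  obtain ⟨y₀, hy₀, D₀, hD₀, -⟩ := hη₀ s₀ hs₀
  have hs₀' : (s₀ ≫ N₀.ι) ≫ p = 𝟙 _ := by rw [Category.assoc, hs₀]
  obtain ⟨κ, hκ⟩ := exists_kappa (ZMod ℓ) D₀ _ hD₀
    (plc (ZMod ℓ) (sl p (s₀ ≫ N₀.ι) hs₀') (le_sl p (s₀ ≫ N₀.ι) hs₀') (2 * d) c)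
  have hη1 : deg (clD D₀ (ZMod ℓ) κ) = 1 := by
    rw [hκ, fg_plc, hslice]
  have hη : ∀ {y : X ⟶ Spec (CommRingCat.of k)} (_ : y = p) (D : Dat y d) (x : X), Simple D x →
      clD D (ZMod ℓ) κ = clD D₀ (ZMod ℓ) κ := fun e D x hx =>
    clD_eq_of_simple hB hC hcons e hy₀ D D₀ x _ hx hD₀
  -- the fixed points
  have hfin := finite_FixS p f hf
  let e := hfin.toFinset.equivFin.symm
  let x : Fin hfin.toFinset.card → X := fun i => (e i : X)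
  have hx : ∀ i, x i ∈ FixS p f hf := fun i => hfin.mem_toFinset.1 (e i).2
  have hinj : Function.Injective x := fun i j h => e.injective (Subtype.ext h)
  have hrange : Set.range x = FixS p f hf := by
    ext y
    constructor
    · rintro ⟨i, rfl⟩
      exact hx i
    · intro hy
      exact ⟨e.symm ⟨y, hfin.mem_toFinset.2 hy⟩, by simp [x]⟩
  have hcl : ∀ i, IsClosed {x i} := fun i =>
    isClosed_of_finite (isClosed_FixS p f hf) hfin (hx i)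
  choose U t het ht N hxN h₁ h₂ hzer huniq hdeg using fun i =>
    exists_local_fixed hA hC hd hcons hcoord hpur c deg hslice hη hη1 f hf hfin (x i) (hx i)
  have hcount : FinFr.fixCount p f hf = ∑ i, mult (psi (f := f) (h₁ i) (h₂ i) (t i)) :=
    hD p f hf d (Fin hfin.toFinset.card) x hinj (hrange.trans (FixS_eq p f hf)) U t ht N hxN h₁ h₂
      hzer
  -- decomposition of the support
  obtain ⟨zs, hz1, hz2⟩ := exists_decomp_finset (ZMod ℓ) (m := 2 * d) (fun x : X => Opt x)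
    (Finset.univ.image x) (fun z hz y => by
      obtain ⟨i, -, rfl⟩ := Finset.mem_image.1 hz
      exact notMem_Opt (hcl i) y) (O := gr p f hf ⁻¹ᵁ OD p) (fun z => by
        change ¬ (gr p f hf z ∈ OD p) ↔ _
        rw [notMem_OD]
        change z ∈ FixS p f hf ↔ _
        have h5 : z ∈ FixS p f hf ↔ z ∈ Set.range x :=
          iff_of_eq (congrArg (fun S => z ∈ S) hrange.symm)
        rw [h5]
        simp) (plc (ZMod ℓ) (gr p f hf) (le_refl _) (2 * d) c)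
  rw [← fg_plc (ZMod ℓ) (gr p f hf) (le_refl _) (2 * d) c, hz1, map_sum,
    Finset.sum_image (fun i _ j _ h => hinj h), hcount, Nat.cast_sum]
  refine Finset.sum_congr rfl (fun i _ => ?_)
  have hmemi : ∀ v : N i, (v : X) ∈ Finset.univ.image x → (v : X) = x i := by
    intro v hv
    obtain ⟨j, -, hj⟩ := Finset.mem_image.1 hv
    exact huniq i v (hj ▸ hx j)
  have hle : (N i).ι ⁻¹ᵁ Opt (x i) ≤ ((N i).ι ≫ gr p f hf) ⁻¹ᵁ OD p := by
    intro v hv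
    by_contra h
    have h3 : (N i).ι v ∈ FixS p f hf := by
      have h4 := (notMem_OD p _).1 h
      rwa [Scheme.Hom.comp_apply] at h4
    exact (notMem_Opt (hcl i) ((N i).ι v)).2 (huniq i v h3) hv
  refine hdeg i (zs (x i)) hle ?_
  rw [← hz2 (x i) (Finset.mem_image_of_mem x (Finset.mem_univ i)) (N i).ι hmemi
    ((N i).ι ⁻¹ᵁ Opt (x i)) (le_refl _) hle]
  exact plc_plc (ZMod ℓ) (N i).ι (gr p f hf) ((N i).ι ≫ gr p f hf) rfl (le_refl _) hle hle (2 * d) c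

end

end Groth.Agent.Sga4h.H556.GeoMain
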