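import Groth.Agent.Sga4h.H556.Supp

/-!
# Gluing of sections along `{V, O}`

`ExcCond O V`: `V ⟶ Y` étale "is an isomorphism over `Y ∖ O`". A section of `F` over `V` which
vanishes over `O` extends uniquely to a section over `Y` vanishing on `O`.
-/

set_option autoImplicit false
universe u
open CategoryTheory CategoryTheory.Limits AlgebraicGeometry Opposite Abelian
open Groth.Agent.Sga4B.DualShape Groth.Agent.EtpbcA Groth.Agent.Sga4B.DiagB
open scoped Groth.Agent.Etcore.EtInst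
open Groth.Agent.Etcore.EtInst

namespace Groth.Agent.Sga4h.H556.Glue

open Groth.Agent.Sga4B Groth.Agent.Etcore Groth.Agent.Sga4h.H556.Supp
open Groth.Agent.Etcore.PullCoh (toTop_ext res_comp res_id map_res)

variable {Y : Scheme.{u}}

/-- `V ⟶ Y` étale "is an isomorphism over `Y ∖ O`". -/
structure ExcCond (O : Y.Opens) (V : Y.Etale) : Prop where
  surj : ∀ y : Y, y ∉ O → ∃ v : V.left, V.hom v = y
  inj : ∀ (T : Y.Etale) (a b : T ⟶ V) (t : T.left), T.hom t ∉ O →
    ∃ (T' : Y.Etale) (g : T' ⟶ T) (t' : T'.left), g.left t' = t ∧ g ≫ a = g ≫ b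

section

variable {O : Y.Opens} {V : Y.Etale} (hE : ExcCond O V) (F : EtCoh.Ab Y) (s : EtCoh.sect F V)
  (hs : ∀ (T : Y.Etale) (a : T ⟶ V), (∀ t, T.hom t ∈ O) → F.obj.map a.op s = 0)

/-- The open part of `T` over `O`. -/
theorem exists_over (T : Y.Etale) (t : T.left) (ht : T.hom t ∈ O) :
    ∃ (T' : Y.Etale) (g : T' ⟶ T) (t' : T'.left), g.left t' = t ∧ ∀ t, T'.hom t ∈ O := by
  obtain ⟨W, a, b, z, h1, -⟩ := Cover.exists_common T (opE O) t (⟨T.hom t, ht⟩ : O) rfl
  refine ⟨W, a, z, h1, fun w => ?_⟩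
  rw [← Cover.hom_apply b w]
  exact (b.left w : O).2

include hE hs in
theorem res_eq (T : Y.Etale) (a b : T ⟶ V) : F.obj.map a.op s = F.obj.map b.op s := by
  refine Etbase.EtSite.sect_ext F T _ _ (fun t => ?_)
  by_cases ht : T.hom t ∈ O
  · obtain ⟨T', g, t', h1, h2⟩ := exists_over T t ht
    refine ⟨T', g, t', h1, ?_⟩
    rw [← res_comp, ← res_comp, hs T' _ h2, hs T' _ h2]
  · obtain ⟨T', g, t', h1, h2⟩ := hE.inj T a b t ht
    refine ⟨T', g, t', h1, ?_⟩
    rw [← res_comp, ← res_comp, h2]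

open Classical in
/-- The matching family. -/
noncomputable def val (T : Y.Etale) : EtCoh.sect F T :=
  if h : Nonempty (T ⟶ V) then F.obj.map h.some.op s else 0

include hE hs in
theorem val_eq (T : Y.Etale) (a : T ⟶ V) : val F s T = F.obj.map a.op s := by
  rw [val, dif_pos ⟨a⟩]
  exact res_eq hE F s hs T _ _

include hE hs in
theorem res_val {T Z : Y.Etale} (g : Z ⟶ T) (hT : Nonempty (T ⟶ V) ∨ ∀ t, T.hom t ∈ O) :
    F.obj.map g.op (val F s T) = val F s Z := by
  by_cases h : Nonempty (T ⟶ V)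
  · obtain ⟨a⟩ := h
    rw [val_eq hE F s hs T a, val_eq hE F s hs Z (g ≫ a), res_comp]
  · have hT' : ∀ t, T.hom t ∈ O := hT.resolve_left h
    rw [val, dif_neg h, map_zero]
    by_cases h2 : Nonempty (Z ⟶ V)
    · obtain ⟨b⟩ := h2
      rw [val_eq hE F s hs Z b, hs Z b]
      intro z
      rw [← Cover.hom_apply g z]
      exact hT' _
    · rw [val, dif_neg h2]

include hE hs in
theorem exists_glue : ∃ t : EtCoh.sect F (EtCoh.top Y), F.obj.map (toTop V).op t = s ∧
    F.obj.map (toTop (opE O)).op t = 0 := by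
  have hF : Presieve.IsSheaf Y.smallEtaleTopology (F.obj ⋙ forget AddCommGrpCat.{u + 1}) :=
    (isSheaf_iff_isSheaf_of_type _ _).1
      ((Presheaf.isSheaf_iff_isSheaf_forget _ _ (forget AddCommGrpCat.{u + 1})).1 F.property)
  let R : Sieve (EtCoh.top Y) :=
    { arrows := fun T _ => Nonempty (T ⟶ V) ∨ ∀ t, T.hom t ∈ O
      downward_closed := by
        rintro T Z f (⟨⟨a⟩⟩ | h) g
        · exact Or.inl ⟨g ≫ a⟩
        · refine Or.inr (fun z => ?_)
          rw [← Cover.hom_apply g z]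
          exact h _ }
  have hR : R ∈ Y.smallEtaleTopology (EtCoh.top Y) := by
    rw [Etbase.EtSite.mem_iff]
    intro y
    by_cases hy : (EtCoh.top Y).hom y ∈ O
    · refine ⟨opE O, toTop _, (⟨(EtCoh.top Y).hom y, hy⟩ : O), Or.inr (fun t => (t : O).2), ?_⟩
      exact Cover.hom_apply (toTop (opE O)) (⟨(EtCoh.top Y).hom y, hy⟩ : O)
    · obtain ⟨v, hv⟩ := hE.surj _ hy
      refine ⟨V, toTop _, v, Or.inl ⟨𝟙 V⟩, ?_⟩
      exact (Cover.hom_apply (toTop V) v).trans hv
  let x : Presieve.FamilyOfElements (F.obj ⋙ forget AddCommGrpCat.{u + 1}) R.arrows :=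
    fun T _ _ => val F s T
  have hx : x.Compatible := by
    intro T₁ T₂ Z g₁ g₂ f₁ f₂ h₁ h₂ _
    exact (res_val hE F s hs g₁ h₁).trans (res_val hE F s hs g₂ h₂).symm
  obtain ⟨t, ht, -⟩ := hF R hR x hx
  refine ⟨t, ?_, ?_⟩
  · refine (ht (toTop V) (Or.inl ⟨𝟙 V⟩)).trans ?_
    change val F s V = s
    rw [val_eq hE F s hs V (𝟙 V), res_id]
  · refine (ht (toTop (opE O)) (Or.inr (fun t => (t : O).2))).trans ?_
    change val F s (opE O) = 0
    by_cases h2 : Nonempty (opE O ⟶ V)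
    · obtain ⟨b⟩ := h2
      rw [val_eq hE F s hs _ b, hs _ b]
      exact fun t => (t : O).2
    · rw [val, dif_neg h2]

include hE in
theorem eq_zero_of_res (t : EtCoh.sect F (EtCoh.top Y)) (h1 : F.obj.map (toTop V).op t = 0)
    (h2 : F.obj.map (toTop (opE O)).op t = 0) : t = 0 := by
  refine Etbase.EtSite.sect_eq_zero F _ t (fun y => ?_)
  by_cases hy : (EtCoh.top Y).hom y ∈ O
  · exact ⟨opE O, toTop _, (⟨(EtCoh.top Y).hom y, hy⟩ : O),
      Cover.hom_apply (toTop (opE O)) (⟨(EtCoh.top Y).hom y, hy⟩ : O), h2⟩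
  · obtain ⟨v, hv⟩ := hE.surj _ hy
    exact ⟨V, toTop _, v, (Cover.hom_apply (toTop V) v).trans hv, h1⟩

/-- Sections over `T ⟶ V` with `T` over `O` vanish iff the section over `V ×_Y O` vanishes. -/
theorem res_zero_of (V' : Y.Etale) (i : V' ⟶ V) (hi : ∀ (v : V.left), V.hom v ∈ O →
      ∃ v', i.left v' = v)
    (h0 : F.obj.map i.op s = 0) (T : Y.Etale) (a : T ⟶ V) (hT : ∀ t, T.hom t ∈ O) :
    F.obj.map a.op s = 0 := by
  refine Etbase.EtSite.sect_eq_zero F _ _ (fun t => ?_)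
  obtain ⟨v', hv'⟩ := hi (a.left t) (by rw [Cover.hom_apply]; exact hT t)
  obtain ⟨P, b, c, p, h1, h2, -⟩ := Etbase.EtSite.exists_pullback a i t v' hv'.symm
  refine ⟨P, b, p, h2, ?_⟩
  rw [← res_comp, h1, res_comp, h0, map_zero]

end

end Groth.Agent.Sga4h.H556.Glue
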