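import Groth.Agent.Sga4h.H556.GeoBase

/-!
# Existence of a generator: every class supported at a point is the class of a simple datum
-/

set_option autoImplicit false
universe u
open CategoryTheory CategoryTheory.Limits AlgebraicGeometry Opposite Abelian
open Groth.Agent.Sga4B.DualShape Groth.Agent.EtpbcA Groth.Agent.Sga4B.DiagB
open scoped Groth.Agent.Etcore.EtInst
open Groth.Agent.Etcore.EtInst

namespace Groth.Agent.Sga4h.H556.Kappa

open Groth.Agent.Sga4B Groth.Agent.Etcore Groth.Agent.Sga4h.H556.Supp Groth.Agent.Sga4h.H556.Glue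
open Groth.Agent.Sga4h.H556.Exc Groth.Agent.Sga4h.H556.Cl Groth.Agent.Sga4h.H556.Decomp
open Groth.Agent.Sga4h.H556.DatCl Groth.Agent.Sga4h.H556.SimpleDat Groth.Agent.Sga4h.H556.MultA
open Groth.Agent.Sga4h.H556.ExcPt Groth.Agent.Sga4h.H556.Geo
open Groth.Agent.Sga4h.H13

noncomputable section

variable {k : Type u} [Field k] [IsAlgClosed k] {X : Scheme.{u}} {d m : ℕ}
  (M : Type) [AddCommGroup M]

theorem isClosed_origin_pt (k : Type u) [Field k] (d : ℕ) : IsClosed {origin k d default} := by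
  have h3 : ({origin k d default} : Set (Aff k d)) = Set.range (origin k d) := by
    ext z
    constructor
    · rintro rfl
      exact ⟨_, rfl⟩
    · rintro ⟨a, rfl⟩
      rw [Subsingleton.elim a default]
      rfl
  rw [h3]
  exact (origin k d).isClosedEmbedding.isClosed_range

theorem notMem_O0 (k : Type u) [Field k] (d : ℕ) (y : Aff k d) (hy : y ∉ O0 k d) :
    y = origin k d default := by
  obtain ⟨a, ha⟩ : y ∈ Set.range (origin k d) := not_not.1 hy
  rw [← ha, Subsingleton.elim a default]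

/-- Every class supported at `x₀` is the class of a given simple datum, for a suitable class `κ`
supported at the origin. -/
theorem exists_kappa {y : X ⟶ Spec (CommRingCat.of k)} (D : Dat y d) (x₀ : X)
    (hD : Simple D x₀) (z₀ : HS M (Opt x₀) m) :
    ∃ κ : HS M (O0 k d) m, clD D M κ = fg _ _ m z₀ := by
  obtain ⟨O, hO, hx₀, het⟩ := hD.et
  have hcl : IsClosed {x₀} := by
    rw [← hD.Z]
    exact D.isClosed_Z
  let t : O.toScheme ⟶ Aff k d := X.homOfLE hO ≫ D.Φ
  have hz : ∀ v : O, v ∈ zeros t ↔ v = ⟨x₀, hx₀⟩ := by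
    intro v
    rw [mem_zeros_homOfLE, hD.Z]
    constructor
    · intro h
      exact Subtype.ext h
    · intro h
      rw [h]
      rfl
  have hO0 : ∀ v : O, v ∉ t ⁻¹ᵁ (O0 k d) ↔ v = ⟨x₀, hx₀⟩ := fun v =>
    (mem_zeros_iff t v).symm.trans (hz v)
  have hOpt : ∀ v : O, v ∉ O.ι ⁻¹ᵁ (Opt x₀) ↔ v = ⟨x₀, hx₀⟩ := by
    intro v
    refine (notMem_Opt hcl (v : X)).trans ⟨fun h => Subtype.ext h, fun h => ?_⟩
    rw [h]
  have hle : t ⁻¹ᵁ (O0 k d) ≤ O.ι ⁻¹ᵁ (Opt x₀) := by
    intro v hv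
    by_contra h
    exact (hO0 v).2 ((hOpt v).1 h) hv
  have hge : O.ι ⁻¹ᵁ (Opt x₀) ≤ t ⁻¹ᵁ (O0 k d) := by
    intro v hv
    by_contra h
    exact (hOpt v).2 ((hO0 v).1 h) hv
  have hE : ExcCond (O0 k d) (Scheme.Etale.mk t) := by
    refine excCond_of_unique (Aff.str k d) t (O0 k d) (origin k d default)
      (isClosed_origin_pt k d) (notMem_O0 k d) (⟨x₀, hx₀⟩ : O) ?_ (fun v hv => ?_)
    · refine notMem_O0 k d _ ?_
      exact (hO0 ⟨x₀, hx₀⟩).2 rfl
    · refine (hz v).1 ?_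
      exact ⟨default, hv.symm⟩
  obtain ⟨κ, hκ⟩ := (plc_bijective M t hE m).2 (plc M O.ι hle m z₀)
  refine ⟨κ, ?_⟩
  have hWO' : O ⊔ Opt x₀ = ⊤ := by
    rw [eq_top_iff]
    intro v _
    rw [TopologicalSpace.Opens.mem_sup]
    by_cases hv : v = x₀
    · exact Or.inl (hv ▸ hx₀)
    · exact Or.inr (by
        by_contra h
        exact hv ((notMem_Opt hcl v).1 h))
  have h1 : clD D M κ = cl M κ hWO' t hge := by
    refine cl_congr M κ (hWO D) D.Φ (hΦ D) hWO' t hge O (Opt x₀) hO (le_refl _) ?_ (le_refl _)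
      hWO' ?_
    · intro v hv hv'
      rw [hD.Z] at hv'
      exact (notMem_Opt hcl v).2 hv' hv
    · rw [Scheme.homOfLE_rfl, Category.id_comp]
  rw [h1, cl]
  congr 1
  symm
  refine eq_clz M κ hWO' t hge z₀ ?_
  have h2 := congrArg (rs hge (EtCoh.const _ M) m) hκ
  rw [plc, plc, rs_pl t hge (le_refl _) hge, rs_pl O.ι hge hle (le_refl _)] at h2
  exact h2.symm

end

end Groth.Agent.Sga4h.H556.Kappa
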