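import Groth.Agent.Sga4h.H556.SimpleDat

/-!
# The class of a datum with an isolated zero is its multiplicity
-/

set_option autoImplicit false
universe u
open CategoryTheory CategoryTheory.Limits AlgebraicGeometry Opposite Abelian
open Groth.Agent.Sga4B.DualShape Groth.Agent.EtpbcA Groth.Agent.Sga4B.DiagB
open scoped Groth.Agent.Etcore.EtInst
open Groth.Agent.Etcore.EtInst

namespace Groth.Agent.Sga4h.H556.MultA

open Groth.Agent.Sga4B Groth.Agent.Etcore Groth.Agent.Sga4h.H556.Supp Groth.Agent.Sga4h.H556.Glue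
open Groth.Agent.Sga4h.H556.Exc Groth.Agent.Sga4h.H556.Cl Groth.Agent.Sga4h.H556.Decomp
open Groth.Agent.Sga4h.H556.DatCl Groth.Agent.Sga4h.H556.SimpleDat
open Groth.Agent.Sga4h.H13

noncomputable section

variable {k : Type u} [Field k] {X : Scheme.{u}} {d : ℕ}

/-- The complement of (the closure of) a point. -/
def Opt (x : X) : X.Opens := ⟨(closure {x})ᶜ, isClosed_closure.isOpen_compl⟩

theorem notMem_Opt {x : X} (hx : IsClosed {x}) (y : X) : y ∉ Opt x ↔ y = x := by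
  change ¬ (y ∈ (closure {x})ᶜ) ↔ _
  rw [hx.closure_eq, Set.mem_compl_iff, not_not, Set.mem_singleton_iff]

/-- Points of a finite closed subset of a Jacobson space are closed. -/
theorem isClosed_of_finite {X : Type*} [TopologicalSpace X] [JacobsonSpace X] {Z : Set X}
    (hZ : IsClosed Z) (hf : Z.Finite) {z : X} (hz : z ∈ Z) : IsClosed {z} := by
  have h1 : IsClosed (Z ∩ closedPoints X) := by
    rw [← Set.biUnion_of_singleton (Z ∩ closedPoints X)]
    exact (hf.subset Set.inter_subset_left).isClosed_biUnion (fun x hx => hx.2)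
  have h2 := closure_inter_closedPoints hZ
  rw [h1.closure_eq] at h2
  rw [← h2] at hz
  exact hz.2

variable {M : Type} [AddCommGroup M] {m : ℕ} {κ : HS M (O0 k d) m}

/-- The class of a datum as a sum of classes of data with one zero. -/
theorem clD_sum {y : X ⟶ Spec (CommRingCat.of k)} (D : Dat y d) {ι : Type*} [Fintype ι]
    (x : ι → X) (hx : Function.Injective x) (hZ : D.Z = Set.range x)
    (hcl : ∀ i, IsClosed {x i}) (W' : ι → X.Opens) (_ : ∀ i, x i ∈ W' i)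
    (h' : ∀ i, W' i ≤ D.W) (hne : ∀ i j, x j ∈ W' i → j = i)
    (hWO' : ∀ i, W' i ⊔ Opt (x i) = ⊤)
    (hΦ' : ∀ i, (W' i).ι ⁻¹ᵁ (Opt (x i)) ≤ (X.homOfLE (h' i) ≫ D.Φ) ⁻¹ᵁ (O0 k d)) :
    clD D M κ = ∑ i, cl M κ (hWO' i) (X.homOfLE (h' i) ≫ D.Φ) (hΦ' i) := by
  classical
  obtain ⟨zs, h1, h2⟩ := exists_decomp_finset M (m := m) (fun x : X => Opt x)
    (Finset.univ.image x) (fun z hz y => by
      obtain ⟨i, -, rfl⟩ := Finset.mem_image.1 hz
      exact notMem_Opt (hcl i) y) (O := D.compl) (fun z => by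
        rw [mem_compl_iff, not_not, hZ]
        simp) (clzD D M κ)
  rw [← fg_clzD, h1, Finset.sum_image (fun i _ j _ h => hx h)]
  refine Finset.sum_congr rfl (fun i _ => ?_)
  rw [cl]
  congr 1
  refine eq_clz M κ (hWO' i) _ (hΦ' i) _ ?_
  have hle : (W' i).ι ⁻¹ᵁ (Opt (x i)) ≤ (W' i).ι ⁻¹ᵁ D.compl := by
    intro w hw hwZ
    rw [hZ] at hwZ
    obtain ⟨j, hj⟩ := hwZ
    have hj' : x j ∈ W' i := by
      rw [hj]
      exact w.2
    have := hne i j hj'
    subst this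
    exact (notMem_Opt (hcl j) _).2 hj.symm hw
  have h3 := h2 (x i) (Finset.mem_image_of_mem x (Finset.mem_univ i)) (W' i).ι (fun v hv => by
      obtain ⟨j, -, hj⟩ := Finset.mem_image.1 hv
      have hj' : x j ∈ W' i := by
        rw [hj]
        exact v.2
      rw [← hj, hne i j hj']) ((W' i).ι ⁻¹ᵁ Opt (x i)) (le_refl _) hle
  rw [← h3]
  have h4 : (W' i).ι ⁻¹ᵁ (Opt (x i)) ≤ (X.homOfLE (h' i)) ⁻¹ᵁ (D.W.ι ⁻¹ᵁ D.compl) := by
    have e : (X.homOfLE (h' i)) ⁻¹ᵁ (D.W.ι ⁻¹ᵁ D.compl) = (W' i).ι ⁻¹ᵁ D.compl := by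
      rw [← Scheme.Hom.comp_preimage, Scheme.homOfLE_ι]
    rw [e]
    exact hle
  rw [← plc_plc M (X.homOfLE (h' i)) D.W.ι (W' i).ι (Scheme.homOfLE_ι _ (h' i)) (le_refl _) h4 hle,
    clzD, plc_clz, plc_plc M (X.homOfLE (h' i)) D.Φ (X.homOfLE (h' i) ≫ D.Φ) rfl (hΦ D) h4 (hΦ' i)]

section

variable {p : X ⟶ Spec (CommRingCat.of k)} [LocallyOfFiniteType p]
  {η : HH X (EtCoh.const X M) m}
  (hη : ∀ {y : X ⟶ Spec (CommRingCat.of k)} (_ : y = p) (D : Dat y d) (x : X), Simple D x →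
    clD D M κ = η)

include hη in
/-- A datum with `n` simple zeros. -/
theorem clD_eq_nsmul {y : X ⟶ Spec (CommRingCat.of k)} (e : y = p) (D : Dat y d) (n : ℕ)
    (x : Fin n → X) (hx : Function.Injective x) (hZ : D.Z = Set.range x)
    (het : ∀ i, ∃ (O : X.Opens) (h : O ≤ D.W), x i ∈ O ∧ Etale (X.homOfLE h ≫ D.Φ)) :
    clD D M κ = n • η := by
  classical
  have hJ : JacobsonSpace X := LocallyOfFiniteType.jacobsonSpace p
  have hfin : D.Z.Finite := by
    rw [hZ]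
    exact Set.finite_range x
  have hcl : ∀ i, IsClosed {x i} := fun i =>
    isClosed_of_finite D.isClosed_Z hfin (by rw [hZ]; exact ⟨i, rfl⟩)
  choose O hO hxO hetO using het
  have hclr : ∀ i, IsClosed (x '' {j | j ≠ i}) := by
    intro i
    rw [← Set.biUnion_of_singleton (x '' {j | j ≠ i})]
    refine (Set.toFinite _).isClosed_biUnion ?_
    rintro _ ⟨j, -, rfl⟩
    exact hcl j
  let W' : Fin n → X.Opens := fun i => O i ⊓ ⟨(x '' {j | j ≠ i})ᶜ, (hclr i).isOpen_compl⟩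
  have hW' : ∀ i, x i ∈ W' i := fun i => ⟨hxO i, by
    rintro ⟨j, hj, hji⟩
    exact hj (hx hji)⟩
  have h' : ∀ i, W' i ≤ D.W := fun i => inf_le_left.trans (hO i)
  have hne : ∀ i j, x j ∈ W' i → j = i := by
    intro i j hj
    by_contra hji
    exact hj.2 ⟨j, hji, rfl⟩
  have hZi : ∀ i, (W' i : Set X) ∩ D.Z = {x i} := by
    intro i
    rw [hZ]
    ext z
    constructor
    · rintro ⟨hz, j, rfl⟩
      rw [hne i j hz]
      rfl
    · rintro rfl
      exact ⟨hW' i, i, rfl⟩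
  let D' : Fin n → Dat y d := fun i => D.res (W' i) (h' i) (by rw [hZi]; exact hcl i)
  have hD'Z : ∀ i, (D' i).Z = {x i} := fun i => (D.res_Z _ _ _).trans (hZi i)
  have hWO' : ∀ i, W' i ⊔ Opt (x i) = ⊤ := by
    intro i
    rw [eq_top_iff]
    intro z _
    rw [TopologicalSpace.Opens.mem_sup]
    by_cases hz : z = x i
    · exact Or.inl (hz ▸ hW' i)
    · exact Or.inr (by
        by_contra hc
        exact hz ((notMem_Opt (hcl i) z).1 hc))
  have hO' : ∀ i, Opt (x i) ≤ (D' i).compl := by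
    intro i z hz hz'
    rw [hD'Z] at hz'
    exact (notMem_Opt (hcl i) z).2 hz' hz
  have hΦ' : ∀ i, (W' i).ι ⁻¹ᵁ (Opt (x i)) ≤ (X.homOfLE (h' i) ≫ D.Φ) ⁻¹ᵁ (O0 k d) := fun i =>
    le_trans (fun z hz => hO' i hz) (hΦ (D' i))
  rw [clD_sum D x hx hZ hcl W' hW' h' hne hWO' hΦ']
  have h1 : ∀ i, cl M κ (hWO' i) (X.homOfLE (h' i) ≫ D.Φ) (hΦ' i) = η := by
    intro i
    rw [← hη e (D' i) (x i) ⟨hD'Z i, W' i, le_refl _, hW' i, ?_⟩]
    · exact cl_congr M κ (hWO' i) _ (hΦ' i) (hWO (D' i)) (D' i).Φ (hΦ (D' i)) (W' i) (Opt (x i))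
        (le_refl _) (le_refl _) (le_refl _) (hO' i) (hWO' i) rfl
    · change Etale (X.homOfLE (le_refl (W' i)) ≫ X.homOfLE (h' i) ≫ D.Φ)
      rw [Scheme.homOfLE_rfl, Category.id_comp]
      have h3 : W' i ≤ O i := inf_le_left
      have h4 := hetO i
      rw [← Scheme.homOfLE_homOfLE_assoc X h3 (hO i)]
      infer_instance
  rw [Finset.sum_congr rfl (fun i _ => h1 i), Finset.sum_const, Finset.card_univ, Fintype.card_fin]

theorem Z_of_of {y : X ⟶ Spec (CommRingCat.of k)} {D : Dat y d} {N : X.Opens}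
    {ψ : N.toScheme ⟶ Aff k d} (hD : D.Of N ψ) {x : N} (hx : zeros ψ = {x})
    (hxW : (x : X) ∈ D.W) : D.Z = {(x : X)} := by
  obtain ⟨h, e⟩ := hD
  have h1 := Dat.image_zeros_res (Y := X) h ψ
  have h2 : D.Z = D.W.ι '' zeros (X.homOfLE h ≫ ψ) := by rw [Dat.Z, e]
  rw [h2, h1, hx]
  ext z
  constructor
  · rintro ⟨-, w, hw, rfl⟩
    have hw' : w = x := hw
    subst hw'
    rfl
  · rintro rfl
    exact ⟨hxW, x, rfl, rfl⟩

variable [IsSeparated p] (hA : StmtA k) (hcons : Cons p M)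

include hη hA hcons in
/-- **The class of a datum with one zero is the multiplicity.** -/
theorem clD_eq_mult (N : X.Opens) (t ψ : N.toScheme ⟶ Aff k d) [Etale t]
    (ht : t ≫ Aff.str k d = N.ι ≫ p) (hψ : ψ ≫ Aff.str k d = N.ι ≫ p) (x : N)
    (hx : zeros ψ = {x}) {y : X ⟶ Spec (CommRingCat.of k)} (D : Dat y d)
    (hD : D.Of N ψ) (hDx : (x : X) ∈ D.W) : clD D M κ = mult ψ • η := by
  obtain ⟨S, b, hb, hS, D', s₀, s₁, hs₀, hs₁, hxW, hOf, hW₁, z, hz, hZ₁, het⟩ :=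
    hA p d N t ψ ht hψ x hx
  have c₁ : clD D M κ = clD (D'.pull (fib p b s₀ hs₀)) M κ :=
    clD_congr_of D _ N ψ hD hOf ((Z_of_of hD hx hDx).trans (Z_of_of hOf hx hxW).symm)
  rw [c₁, hcons.clD_eq hb hS D' s₀ s₁ hs₀ hs₁]
  exact clD_eq_nsmul hη (fib_fst_assoc p b s₁ hs₁ p) _ (mult ψ) z hz hZ₁ het

end

end

end Groth.Agent.Sga4h.H556.MultA
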