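import Groth.Agent.Sga4h.H556.Kappa

/-!
# The class of the diagonal is locally the class of a datum
-/

set_option autoImplicit false
universe u
open CategoryTheory CategoryTheory.Limits AlgebraicGeometry Opposite Abelian
open Groth.Agent.Sga4B.DualShape Groth.Agent.EtpbcA Groth.Agent.Sga4B.DiagB
open scoped Groth.Agent.Etcore.EtInst
open Groth.Agent.Etcore.EtInst

namespace Groth.Agent.Sga4h.H556.Nu

open Groth.Agent.Sga4B Groth.Agent.Etcore Groth.Agent.Sga4h.H556.Supp Groth.Agent.Sga4h.H556.Glue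
open Groth.Agent.Sga4h.H556.Exc Groth.Agent.Sga4h.H556.Cl Groth.Agent.Sga4h.H556.Decomp
open Groth.Agent.Sga4h.H556.DatCl Groth.Agent.Sga4h.H556.SimpleDat Groth.Agent.Sga4h.H556.MultA
open Groth.Agent.Sga4h.H556.ExcPt Groth.Agent.Sga4h.H556.Geo Groth.Agent.Sga4h.H556.Pur
open Groth.Agent.Sga4h.H13

noncomputable section

theorem exists_zsmul_pl' {Y Z : Scheme.{u}} (i : Z ⟶ Y) [IsClosedImmersion i] (O : Y.Opens)
    {ℓ : ℕ} [Fact ℓ.Prime] {n : ℕ} (hn : 0 < n) (a b : HS (ZMod ℓ) O n) (V₀ : Y.Etale)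
    (v₀ : V₀.left)
    (hpur : Nonempty (EtCoh.restr ((EtDual.locCoh O.ι n).obj (EtCoh.const Y (ZMod ℓ))) V₀ ≅
      EtCoh.restr ((EtCoh.push i).obj ((EtCoh.pull i).obj (EtCoh.const Y (ZMod ℓ)))) V₀))
    (hb : ∀ (V : Y.Etale) (g : V ⟶ V₀) (v : V.left), g.left v = v₀ →
      plc (ZMod ℓ) V.hom (le_refl (V.hom ⁻¹ᵁ O)) n b ≠ 0) :
    ∃ (ν : ℤ) (V : Y.Etale) (g : V ⟶ V₀) (v : V.left), g.left v = v₀ ∧
      plc (ZMod ℓ) V.hom (le_refl (V.hom ⁻¹ᵁ O)) n (a - ν • b) = 0 := by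
  obtain ⟨n, rfl⟩ := Nat.exists_eq_succ_of_ne_zero hn.ne'
  exact exists_zsmul_pl i O a b V₀ v₀ hpur hb

variable {k : Type u} [Field k] {X : Scheme.{u}} (p : X ⟶ Spec (CommRingCat.of k))

/-- The local purity isomorphism along the graph `N ⟶ X × N`, at the point `graph z`. -/
def PurAt (d ℓ : ℕ) (N : X.Opens) (O : (pullback p (N.ι ≫ p)).Opens) (z : N) : Prop :=
  ∃ (V₀ : (pullback p (N.ι ≫ p)).Etale) (v₀ : V₀.left), V₀.hom v₀ = graph p N z ∧
    Nonempty (EtCoh.restr ((EtDual.locCoh O.ι (2 * d)).obj (EtCoh.const _ (ZMod ℓ))) V₀ ≅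
      EtCoh.restr ((EtCoh.push (graph p N)).obj ((EtCoh.pull (graph p N)).obj
        (EtCoh.const _ (ZMod ℓ)))) V₀)

theorem graph_pt (N : X.Opens) (s : Spec (CommRingCat.of k) ⟶ N.toScheme)
    (hs : s ≫ N.ι ≫ p = 𝟙 _) : s ≫ graph p N = (s ≫ N.ι) ≫ fib p (N.ι ≫ p) s hs := by
  apply pullback.hom_ext
  · rw [Category.assoc, graph_fst, Category.assoc, fib_fst, Category.comp_id]
  · rw [Category.assoc, graph_snd, Category.assoc, fib_snd, Category.assoc, ← Category.assoc N.ι,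
      ← Category.assoc s, hs, Category.id_comp, Category.comp_id]

instance [IsSeparated p] (N : X.Opens) : IsClosedImmersion (graph p N) := by
  have h1 : IsClosedImmersion (graph p N ≫ pullback.snd p (N.ι ≫ p)) := by
    rw [graph_snd]
    infer_instance
  exact IsClosedImmersion.of_comp _ (pullback.snd p (N.ι ≫ p))

variable {p} [IsAlgClosed k] [IsSeparated p] [LocallyOfFiniteType p] {d ℓ : ℕ} [Fact ℓ.Prime]

theorem exists_nu (hd : 0 < d) (c : HS (ZMod ℓ) (OD p) (2 * d))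
    (deg : HH X (EtCoh.const X (ZMod ℓ)) (2 * d) →+ ZMod ℓ)
    (hslice : ∀ (s : Spec (CommRingCat.of k) ⟶ X) (hs : s ≫ p = 𝟙 _),
      deg (hc (ZMod ℓ) (sl p s hs) (2 * d) (fg _ _ _ c)) = 1)
    {κ : HS (ZMod ℓ) (O0 k d) (2 * d)} {η : HH X (EtCoh.const X (ZMod ℓ)) (2 * d)}
    (hη : ∀ {y : X ⟶ Spec (CommRingCat.of k)} (_ : y = p) (D : Dat y d) (x : X), Simple D x →
      clD D (ZMod ℓ) κ = η) (hη1 : deg η = 1)
    (N : X.Opens) (D : Dat (pullback.fst p (N.ι ≫ p) ≫ p) d)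
    (hZ : D.Z = Set.range (graph p N)) (s : Spec (CommRingCat.of k) ⟶ N.toScheme)
    (hs : s ≫ N.ι ≫ p = 𝟙 _)
    (hsim : Simple (D.pull (fib p (N.ι ≫ p) s hs)) ((s ≫ N.ι) default))
    (hpur : PurAt p d ℓ N D.compl (s default)) :
    ∃ ν : ℤ, (ν : ZMod ℓ) = 1 ∧ ∃ (V : (pullback p (N.ι ≫ p)).Etale) (v : V.left),
      V.hom v = graph p N (s default) ∧
      plc (ZMod ℓ) V.hom (le_refl (V.hom ⁻¹ᵁ D.compl)) (2 * d)
        (plc (ZMod ℓ) (sw p N) (le_sw p N D.compl (fun y => by rw [mem_compl_iff, not_not, hZ]))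
          (2 * d) c - ν • clzD D (ZMod ℓ) κ) = 0 := by
  have hs' : (s ≫ N.ι) ≫ p = 𝟙 _ := by rw [Category.assoc, hs]
  set x : X := (s ≫ N.ι) default with hx
  set F := fib p (N.ι ≫ p) s hs with hF
  have hcl : IsClosed {x} := isClosed_pt p (s ≫ N.ι) hs'
  have hle : Opt x ≤ F ⁻¹ᵁ D.compl := by
    refine le_trans ?_ (compl_pull D F)
    intro y hy hy'
    rw [hsim.Z] at hy'
    exact (notMem_Opt hcl y).2 hy' hy
  have hFx : F x = graph p N (s default) := by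
    have h := graph_pt p N s hs
    rw [← hF] at h
    rw [hx, ← Scheme.Hom.comp_apply, ← h, Scheme.Hom.comp_apply]
  -- comparison along the slice
  have claim : ∀ (a b : HS (ZMod ℓ) D.compl (2 * d)) (ν : ℤ)
      (V : (pullback p (N.ι ≫ p)).Etale) (v : V.left), V.hom v = graph p N (s default) →
      plc (ZMod ℓ) V.hom (le_refl (V.hom ⁻¹ᵁ D.compl)) (2 * d) (a - ν • b) = 0 →
      plc (ZMod ℓ) F hle (2 * d) a = ν • plc (ZMod ℓ) F hle (2 * d) b := by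
    intro a b ν V v hv h0
    exact eq_zsmul_of_local (ZMod ℓ) p (Opt x) x hcl (fun y => (notMem_Opt hcl y).1) _ _
      (𝟙 X) F x rfl a b hle
      (plc_plc (ZMod ℓ) (𝟙 X) F F (Category.id_comp _) hle (le_refl _) hle _ _)
      (plc_plc (ZMod ℓ) (𝟙 X) F F (Category.id_comp _) hle (le_refl _) hle _ _)
      V v (hv.trans hFx.symm) ν h0
  have hz₁ : deg (fg _ _ _ (plc (ZMod ℓ) F hle (2 * d) (clzD D (ZMod ℓ) κ))) = 1 := by
    rw [fg_plc, fg_clzD, hc_clD, hη (fib_fst_assoc p (N.ι ≫ p) s hs p) _ _ hsim, hη1]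
  obtain ⟨V₀, v₀, hv₀, hpur⟩ := hpur
  obtain ⟨ν, V, g, v, hv, h0⟩ := exists_zsmul_pl' (graph p N) D.compl (by positivity)
    (plc (ZMod ℓ) (sw p N) (le_sw p N D.compl (fun y => by rw [mem_compl_iff, not_not, hZ]))
          (2 * d) c) (clzD D (ZMod ℓ) κ) V₀ v₀ hpur (by
      intro V g v hv h0
      have hv' : V.hom v = graph p N (s default) := by
        rw [← hv₀, ← hv]
        exact (Cover.hom_apply g v).symm
      have h1 := claim (clzD D (ZMod ℓ) κ) 0 0 V v hv' (by rw [zero_smul, sub_zero]; exact h0)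
      rw [zero_smul] at h1
      rw [h1, map_zero, map_zero] at hz₁
      exact zero_ne_one hz₁)
  have hv' : V.hom v = graph p N (s default) := by
    rw [← hv₀, ← hv]
    exact (Cover.hom_apply g v).symm
  refine ⟨ν, ?_, V, v, hv', h0⟩
  have h1 := claim _ _ ν V v hv' h0
  have h2 := hslice (s ≫ N.ι) hs'
  have hO : ∀ y, y ∉ D.compl ↔ y ∈ Set.range (graph p N) := fun y => by
    rw [mem_compl_iff, not_not, hZ]
  have h3 : Opt x ≤ (F ≫ sw p N) ⁻¹ᵁ OD p := fun y hy => le_sw p N D.compl hO (hle hy)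
  have h4 : hc (ZMod ℓ) (sl p (s ≫ N.ι) hs') (2 * d) (fg _ _ _ c) =
      ν • η := by
    rw [← hc_hc (ZMod ℓ) F (sw p N) (sl p (s ≫ N.ι) hs') (fib_sw p N s hs) (2 * d),
      ← fg_plc (ZMod ℓ) (sw p N) (le_sw p N D.compl hO), ← fg_plc (ZMod ℓ) F hle, h1, map_zsmul,
      fg_plc, fg_clzD, hc_clD, hη (fib_fst_assoc p (N.ι ≫ p) s hs p) _ _ hsim]
  rw [h4, map_zsmul, hη1, zsmul_eq_mul, mul_one] at h2
  exact h2

end

end Groth.Agent.Sga4h.H556.Nu
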