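import Groth.Agent.Sga4h.H556.GeoMain
import Groth.Agent.Etrest.ConstBasic

/-!
# The purity hypothesis of `geo` from the purity theorem for smooth pairs
-/

set_option autoImplicit false
universe u
open CategoryTheory CategoryTheory.Limits AlgebraicGeometry Opposite Abelian
open scoped Groth.Agent.Etcore.EtInst
open Groth.Agent.Etcore.EtInst

namespace Groth.Agent.Sga4h.H556.PurFrom

open Groth.Agent.Sga4h.H13 Groth.Agent.Sga4h.H556.Geo Groth.Agent.Sga4h.H556.Nu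
open Groth.Agent.Sga4h.H556.GeoMain

/-- The statement of S3101. -/
def PurityStmt : Prop :=
  ∀ {X Y U S : Scheme.{u}} (f : X ⟶ S) (h : Y ⟶ S) (i : Y ⟶ X)
    (m c : ℕ) (_ : 0 < c) [SmoothOfRelativeDimension (m + c) f] [SmoothOfRelativeDimension m h]
    [IsClosedImmersion i] (_ : i ≫ f = h) (j : U ⟶ X) [IsOpenImmersion j]
    (_ : Set.range j = (Set.range i)ᶜ) [EtCoh.BCCont j] [EtCoh.BCCont i]
    (n : ℕ) (_ : IsUnit (n : Γ(X, ⊤))) (F : EtCoh.Ab X) (_ : EtCoh.IsFiniteLocallyConstant F)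
    (_ : EtCoh.KilledBy n F),
    (∀ q : ℕ, q ≠ 2 * c → IsZero ((EtDual.locCoh j q).obj F)) ∧
      ∃ (ι : Type u) (V : ι → X.Etale), EtCoh.Covers V ∧ ∀ a : ι,
        Nonempty (EtCoh.restr ((EtDual.locCoh j (2 * c)).obj F) (V a) ≅
          EtCoh.restr ((EtCoh.push i).obj ((EtCoh.pull i).obj F)) (V a))

variable {k : Type u} [Field k] {X : Scheme.{u}} {p : X ⟶ Spec (CommRingCat.of k)}
  [IsSeparated p] {d ℓ : ℕ}

theorem isUnit_of_ne_zero {T : Scheme.{u}} (q : T ⟶ Spec (CommRingCat.of k))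
    (hℓ : (ℓ : k) ≠ 0) : IsUnit (ℓ : Γ(T, ⊤)) := by
  let φ : k →+* Γ(T, ⊤) := ((Scheme.ΓSpecIso (CommRingCat.of k)).inv ≫ q.appTop).hom
  have h : IsUnit (φ (ℓ : k)) := (isUnit_iff_ne_zero.2 hℓ).map φ
  rwa [map_natCast] at h

theorem purHyp (hp : PurityStmt.{u}) [SmoothOfRelativeDimension d p] (hd : 0 < d) [Fact ℓ.Prime]
    (hℓ : (ℓ : k) ≠ 0) : PurHyp p d ℓ := by
  intro N O z hO
  have h1 : SmoothOfRelativeDimension d (pullback.snd p (N.ι ≫ p)) :=
    (smoothOfRelativeDimension_isStableUnderBaseChange d).of_isPullback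
      (IsPullback.of_hasPullback p (N.ι ≫ p)) inferInstance
  have h2 : SmoothOfRelativeDimension (0 + d) (pullback.snd p (N.ι ≫ p)) := by
    rw [zero_add]
    exact h1
  have hU : Set.range O.ι = (Set.range (graph p N))ᶜ := by
    rw [Scheme.Opens.range_ι]
    ext y
    rw [Set.mem_compl_iff, ← hO, not_not]
    rfl
  have : NeZero ℓ := ⟨(Fact.out : ℓ.Prime).ne_zero⟩
  obtain ⟨-, ι, V, hV, hiso⟩ := hp (pullback.snd p (N.ι ≫ p)) (𝟙 N.toScheme) (graph p N) 0 d hd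
    (graph_snd p N) O.ι hU ℓ (isUnit_of_ne_zero (pullback.fst p (N.ι ≫ p) ≫ p) hℓ)
    (EtCoh.const _ (ZMod ℓ)) (Groth.Agent.Etrest.ConstBasic.isFiniteLocallyConstant_const _ _)
    (TensorConst.killedBy_const ℓ)
  obtain ⟨a, v, hv⟩ := hV (graph p N z)
  exact ⟨V a, v, hv, hiso a⟩

end Groth.Agent.Sga4h.H556.PurFrom
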