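import Groth.Agent.Sga4h.H556.DatCl
import Mathlib.AlgebraicGeometry.AlgClosed.Basic

/-!
# The class of a simple datum is independent of the datum and of the point
-/

set_option autoImplicit false
universe u
open CategoryTheory CategoryTheory.Limits AlgebraicGeometry Opposite Abelian
open Groth.Agent.Sga4B.DualShape Groth.Agent.EtpbcA Groth.Agent.Sga4B.DiagB
open scoped Groth.Agent.Etcore.EtInst
open Groth.Agent.Etcore.EtInst

namespace Groth.Agent.Sga4h.H556.SimpleDat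

open Groth.Agent.Sga4B Groth.Agent.Etcore Groth.Agent.Sga4h.H556.Supp Groth.Agent.Sga4h.H556.Glue
open Groth.Agent.Sga4h.H556.Exc Groth.Agent.Sga4h.H556.Cl Groth.Agent.Sga4h.H556.Decomp
open Groth.Agent.Sga4h.H556.DatCl
open Groth.Agent.Sga4h.H13

noncomputable section

variable {k : Type u} [Field k] {X Y Y' : Scheme.{u}} {d : ℕ}

/-! ### Differences of maps to affine space -/

section Sub

variable {T T' : Scheme.{u}}

theorem vec_comp (g : T' ⟶ T) (f : T ⟶ Aff k d) (i : ULift.{u} (Fin d)) :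
    vec (g ≫ f) i = g.appTop (vec f i) := by
  rw [vec, vec, Scheme.Hom.comp_appTop]
  rfl

theorem sub_str (f g : T ⟶ Aff k d) : sub f g ≫ Aff.str k d = f ≫ Aff.str k d :=
  AffineSpace.homOfVector_over _ _

theorem vec_sub (f g : T ⟶ Aff k d) (i : ULift.{u} (Fin d)) :
    vec (sub f g) i = vec f i - vec g i :=
  AffineSpace.homOfVector_appTop_coord _ _ _

theorem comp_sub (h : T' ⟶ T) (f g : T ⟶ Aff k d) : h ≫ sub f g = sub (h ≫ f) (h ≫ g) := by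
  refine AffineSpace.hom_ext ?_ (fun i => ?_)
  · change (h ≫ sub f g) ≫ Aff.str k d = sub (h ≫ f) (h ≫ g) ≫ Aff.str k d
    rw [Category.assoc, sub_str, sub_str, Category.assoc]
  · change vec (h ≫ sub f g) i = vec (sub (h ≫ f) (h ≫ g)) i
    rw [vec_comp, vec_sub, vec_sub, vec_comp, vec_comp, map_sub]

/-- The translation by `- v`. -/
def trans (v : Spec (CommRingCat.of k) ⟶ Aff k d) : Aff k d ⟶ Aff k d :=
  sub (𝟙 _) (Aff.str k d ≫ v)

/-- `-v` -/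
def neg (v : Spec (CommRingCat.of k) ⟶ Aff k d) : Spec (CommRingCat.of k) ⟶ Aff k d :=
  AffineSpace.homOfVector (𝟙 _) (fun i => - vec v i)

theorem trans_str (v : Spec (CommRingCat.of k) ⟶ Aff k d) :
    trans v ≫ Aff.str k d = Aff.str k d := by
  rw [trans, sub_str, Category.id_comp]

theorem trans_trans_neg (v : Spec (CommRingCat.of k) ⟶ Aff k d) : trans v ≫ trans (neg v) = 𝟙 _ := by
  refine AffineSpace.hom_ext ?_ (fun i => ?_)
  · change (trans v ≫ trans (neg v)) ≫ Aff.str k d = 𝟙 _ ≫ Aff.str k d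
    rw [Category.assoc, trans_str, trans_str, Category.id_comp]
  · change vec (trans v ≫ trans (neg v)) i = vec (𝟙 _) i
    have h1 : vec (neg v) i = - vec v i := AffineSpace.homOfVector_appTop_coord _ _ _
    have e : trans v ≫ trans (neg v) = sub (trans v) (Aff.str k d ≫ neg v) := by
      conv_lhs => rw [show trans (neg v) = sub (𝟙 _) (Aff.str k d ≫ neg v) from rfl, comp_sub,
        Category.comp_id, ← Category.assoc, trans_str]
    rw [e, vec_sub, trans, vec_sub, vec_comp, vec_comp, h1, map_neg, sub_neg_eq_add,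
      sub_add_cancel]

theorem neg_neg (v : Spec (CommRingCat.of k) ⟶ Aff k d) (hv : v ≫ Aff.str k d = 𝟙 _) :
    neg (neg v) = v := by
  refine AffineSpace.hom_ext ?_ (fun i => ?_)
  · change neg (neg v) ≫ Aff.str k d = v ≫ Aff.str k d
    rw [hv]
    exact AffineSpace.homOfVector_over _ _
  · change vec (neg (neg v)) i = vec v i
    have h1 : ∀ w : Spec (CommRingCat.of k) ⟶ Aff k d, vec (neg w) i = - vec w i := fun w =>
      AffineSpace.homOfVector_appTop_coord _ _ _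
    rw [h1, h1, _root_.neg_neg]

theorem isIso_trans (v : Spec (CommRingCat.of k) ⟶ Aff k d) (hv : v ≫ Aff.str k d = 𝟙 _) :
    IsIso (trans v) := by
  refine ⟨trans (neg v), trans_trans_neg v, ?_⟩
  have h := trans_trans_neg (neg v)
  rwa [neg_neg v hv] at h

/-- Translates of étale maps are étale. -/
theorem etale_sub (t : T ⟶ Aff k d) [Etale t] (a : T ⟶ Spec (CommRingCat.of k))
    (ha : t ≫ Aff.str k d = a) (v : Spec (CommRingCat.of k) ⟶ Aff k d)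
    (hv : v ≫ Aff.str k d = 𝟙 _) : Etale (sub t (a ≫ v)) := by
  have := isIso_trans v hv
  have h : sub t (a ≫ v) = t ≫ trans v := by
    rw [trans, comp_sub, Category.comp_id, ← Category.assoc, ha]
  rw [h]
  infer_instance

end Sub

/-! ### Simple data -/

theorem mem_zeros_homOfLE {y : Y ⟶ Spec (CommRingCat.of k)} (D : Dat y d) {O : Y.Opens}
    (h : O ≤ D.W) (z : O) : z ∈ zeros (Y.homOfLE h ≫ D.Φ) ↔ (z : Y) ∈ D.Z := by
  have h1 : z ∈ zeros (Y.homOfLE h ≫ D.Φ) ↔ Y.homOfLE h z ∈ zeros D.Φ := by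
    change (Y.homOfLE h ≫ D.Φ) z ∈ Set.range _ ↔ D.Φ (Y.homOfLE h z) ∈ Set.range _
    rw [Scheme.Hom.comp_apply]
  refine h1.trans ((mem_Z_iff D _).symm.trans ?_)
  have h2 : D.W.ι (Y.homOfLE h z) = O.ι z := by
    rw [← Scheme.Hom.comp_apply, Scheme.homOfLE_ι]
  exact iff_of_eq (congrArg (· ∈ D.Z) h2)

/-- A datum with the only zero `x`, étale near `x`. -/
structure Simple {y : Y ⟶ Spec (CommRingCat.of k)} (D : Dat y d) (x : Y) : Prop where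
  Z : D.Z = {x}
  et : ∃ (O : Y.Opens) (h : O ≤ D.W), x ∈ O ∧ Etale (Y.homOfLE h ≫ D.Φ)

theorem of_trans {y : Y ⟶ Spec (CommRingCat.of k)} {D : Dat y d} {N N' : Y.Opens} (h : N ≤ N')
    {ψ : N'.toScheme ⟶ Aff k d} (hD : D.Of N (Y.homOfLE h ≫ ψ)) : D.Of N' ψ := by
  obtain ⟨a, ha⟩ := hD
  exact ⟨a.trans h, by rw [ha, Scheme.homOfLE_homOfLE_assoc]⟩

theorem of_self {y : Y ⟶ Spec (CommRingCat.of k)} (D : Dat y d) : D.Of D.W D.Φ :=
  ⟨le_refl _, by rw [Scheme.homOfLE_rfl, Category.id_comp]⟩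

/-- Conservation of number. -/
def Cons (p : X ⟶ Spec (CommRingCat.of k)) (M : Type) [AddCommGroup M] : Prop :=
  ∀ {S : Scheme.{u}} (b : S ⟶ Spec (CommRingCat.of k)) [LocallyOfFiniteType b] [ConnectedSpace S]
    (s₀ s₁ : Spec (CommRingCat.of k) ⟶ S) (h₀ : s₀ ≫ b = 𝟙 _) (h₁ : s₁ ≫ b = 𝟙 _) (m : ℕ)
    (y : HH (pullback p b) (EtCoh.const _ M) m),
    hc M (fib p b s₀ h₀) m y = hc M (fib p b s₁ h₁) m y

variable {M : Type} [AddCommGroup M] {m : ℕ} {κ : HS M (O0 k d) m}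
variable {p : X ⟶ Spec (CommRingCat.of k)}

theorem Cons.clD_eq (hcons : Cons p M) {S : Scheme.{u}} {b : S ⟶ Spec (CommRingCat.of k)}
    (h1 : LocallyOfFiniteType b) (h2 : ConnectedSpace S) (D : Dat (pullback.fst p b ≫ p) d)
    (s₀ s₁ : Spec (CommRingCat.of k) ⟶ S) (h₀ : s₀ ≫ b = 𝟙 _) (h₁ : s₁ ≫ b = 𝟙 _) :
    clD (D.pull (fib p b s₀ h₀)) M κ = clD (D.pull (fib p b s₁ h₁)) M κ := by
  rw [← hc_clD, ← hc_clD]
  exact hcons b s₀ s₁ h₀ h₁ m _

section Same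

variable [IsSeparated p]

theorem clD_eq_of_same (hB : StmtB k) (hcons : Cons p M) {y₁ y₂ : X ⟶ Spec (CommRingCat.of k)}
    (e₁ : y₁ = p) (e₂ : y₂ = p) (D₁ : Dat y₁ d) (D₂ : Dat y₂ d) (x : X) (h₁ : Simple D₁ x)
    (h₂ : Simple D₂ x) : clD D₁ M κ = clD D₂ M κ := by
  obtain ⟨O₁, hO₁, hx₁, et₁⟩ := h₁.et
  obtain ⟨O₂, hO₂, hx₂, et₂⟩ := h₂.et
  let N := O₁ ⊓ O₂
  have hN₁ : N ≤ O₁ := inf_le_left
  have hN₂ : N ≤ O₂ := inf_le_right
  have et₁' : Etale (X.homOfLE (hN₁.trans hO₁) ≫ D₁.Φ) := by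
    rw [← Scheme.homOfLE_homOfLE_assoc X hN₁ hO₁]
    infer_instance
  have et₂' : Etale (X.homOfLE (hN₂.trans hO₂) ≫ D₂.Φ) := by
    rw [← Scheme.homOfLE_homOfLE_assoc X hN₂ hO₂]
    infer_instance
  obtain ⟨S, b, hb, hS, D, s₀, s₁, hs₀, hs₁, hZ₀, hOf₀, hZ₁, hOf₁⟩ := hB p d N
    (X.homOfLE (hN₁.trans hO₁) ≫ D₁.Φ) (X.homOfLE (hN₂.trans hO₂) ≫ D₂.Φ)
    (by rw [Category.assoc, D₁.over, Scheme.homOfLE_ι_assoc, e₁])
    (by rw [Category.assoc, D₂.over, Scheme.homOfLE_ι_assoc, e₂]) ⟨x, hx₁, hx₂⟩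
    ((mem_zeros_homOfLE D₁ _ _).2 (by rw [h₁.Z]; rfl))
    ((mem_zeros_homOfLE D₂ _ _).2 (by rw [h₂.Z]; rfl))
  have c₁ : clD D₁ M κ = clD (D.pull (fib p b s₀ hs₀)) M κ :=
    clD_congr_of D₁ _ D₁.W D₁.Φ (of_self D₁) (of_trans _ hOf₀) (h₁.Z.trans hZ₀.symm)
  have c₂ : clD D₂ M κ = clD (D.pull (fib p b s₁ hs₁)) M κ :=
    clD_congr_of D₂ _ D₂.W D₂.Φ (of_self D₂) (of_trans _ hOf₁) (h₂.Z.trans hZ₁.symm)
  rw [c₁, c₂]
  exact hcons.clD_eq hb hS D s₀ s₁ hs₀ hs₁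

/-- Existence of simple data at all points of the domain of étale coordinates; their classes are
equal if the domain is connected. -/
theorem exists_simple (hC : StmtC k) (hcons : Cons p M) [LocallyOfFiniteType p] (N : X.Opens)
    (hN : ConnectedSpace N) (t : N.toScheme ⟶ Aff k d) [Etale t]
    (ht : t ≫ Aff.str k d = N.ι ≫ p) : ∃ η : HH X (EtCoh.const X M) m,
      ∀ (s : Spec (CommRingCat.of k) ⟶ N.toScheme) (_ : s ≫ N.ι ≫ p = 𝟙 _),
        ∃ (y : X ⟶ Spec (CommRingCat.of k)) (_ : y = p) (D : Dat y d),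
          Simple D ((s ≫ N.ι) default) ∧ clD D M κ = η := by
  obtain ⟨D, h, e, hZ, hs⟩ := hC p d N t ht
  by_cases hne : ∃ s : Spec (CommRingCat.of k) ⟶ N.toScheme, s ≫ N.ι ≫ p = 𝟙 _
  · obtain ⟨s₀, hs₀⟩ := hne
    refine ⟨clD (D.pull (fib p (N.ι ≫ p) s₀ hs₀)) M κ, fun s hs' => ?_⟩
    refine ⟨_, fib_fst_assoc p (N.ι ≫ p) s hs' p, D.pull (fib p (N.ι ≫ p) s hs'), ⟨?_, ?_⟩, ?_⟩
    · rw [(hs s hs').1]
      ext z
      constructor
      · rintro ⟨a, rfl⟩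
        rw [Subsingleton.elim a default]
        rfl
      · rintro rfl
        exact ⟨_, rfl⟩
    · refine ⟨_, le_refl _, ?_, ?_⟩
      · apply Dat.Z_subset
        rw [(hs s hs').1]
        exact ⟨_, rfl⟩
      · obtain ⟨a, ha⟩ := (hs s hs').2
        rw [Scheme.homOfLE_rfl, Category.id_comp, ha]
        have := etale_sub t (N.ι ≫ p) ht (s ≫ t) (by rw [Category.assoc, ht, hs'])
        infer_instance
    · exact hcons.clD_eq inferInstance hN D s s₀ hs' hs₀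
  · push Not at hne
    exact ⟨0, fun s hs' => absurd hs' (hne s)⟩

variable [IsAlgClosed k] [LocallyOfFiniteType p]

omit [IsSeparated p] in
theorem exists_pt (N : X.Opens) (x : X) (hx : x ∈ N) (hcl : IsClosed {x}) :
    ∃ s : Spec (CommRingCat.of k) ⟶ N.toScheme, s ≫ N.ι ≫ p = 𝟙 _ ∧ (s ≫ N.ι) default = x := by
  have h1 : Set.range (pointOfClosedPoint p x hcl) ⊆ Set.range N.ι := by
    rintro _ ⟨a, rfl⟩
    rw [pointOfClosedPoint_apply, Scheme.Opens.range_ι]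
    exact hx
  refine ⟨IsOpenImmersion.lift N.ι (pointOfClosedPoint p x hcl) h1, ?_, ?_⟩
  · rw [IsOpenImmersion.lift_fac_assoc, pointOfClosedPoint_comp]
  · rw [IsOpenImmersion.lift_fac, pointOfClosedPoint_apply]

/-- **All simple data have the same class**. -/
theorem clD_eq_of_simple (hB : StmtB k) (hC : StmtC k) (hcons : Cons p M) [IrreducibleSpace X]
    {y₁ y₂ : X ⟶ Spec (CommRingCat.of k)}
    (e₁ : y₁ = p) (e₂ : y₂ = p) (D₁ : Dat y₁ d) (D₂ : Dat y₂ d) (x₁ x₂ : X) (h₁ : Simple D₁ x₁)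
    (h₂ : Simple D₂ x₂) : clD D₁ M κ = clD D₂ M κ := by
  have hJ : JacobsonSpace X := LocallyOfFiniteType.jacobsonSpace p
  obtain ⟨O₁, hO₁, hx₁, et₁⟩ := h₁.et
  obtain ⟨O₂, hO₂, hx₂, et₂⟩ := h₂.et
  have key : ∀ (O : X.Opens), (∃ x, x ∈ O) → ConnectedSpace O := by
    rintro O ⟨x, hx⟩
    have h0 : Nonempty (O : Set X) := ⟨⟨x, hx⟩⟩
    have h1 : IrreducibleSpace O := O.isOpen.isOpenEmbedding_subtypeVal.irreducibleSpace
    infer_instance
  obtain ⟨η₁, hη₁⟩ := exists_simple (m := m) (κ := κ) hC hcons O₁ (key O₁ ⟨x₁, hx₁⟩)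
    (X.homOfLE hO₁ ≫ D₁.Φ) (by rw [Category.assoc, D₁.over, Scheme.homOfLE_ι_assoc, e₁])
  obtain ⟨η₂, hη₂⟩ := exists_simple (m := m) (κ := κ) hC hcons O₂ (key O₂ ⟨x₂, hx₂⟩)
    (X.homOfLE hO₂ ≫ D₂.Φ) (by rw [Category.assoc, D₂.over, Scheme.homOfLE_ι_assoc, e₂])
  have c₁ : IsClosed {x₁} := by
    rw [← h₁.Z]
    exact D₁.isClosed_Z
  have c₂ : IsClosed {x₂} := by
    rw [← h₂.Z]
    exact D₂.isClosed_Z
  obtain ⟨x₃, ⟨hx₃, hx₃'⟩, c₃⟩ : ((O₁ ∩ O₂ : Set X) ∩ closedPoints X).Nonempty := by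
    refine nonempty_inter_closedPoints ?_ (O₁.isOpen.inter O₂.isOpen).isLocallyClosed
    exact nonempty_preirreducible_inter O₁.isOpen O₂.isOpen ⟨x₁, hx₁⟩ ⟨x₂, hx₂⟩
  have cmp : ∀ {y : X ⟶ Spec (CommRingCat.of k)} (e : y = p) (D : Dat y d) (x : X)
      (_ : Simple D x) (O : X.Opens) (_ : x ∈ O) (_ : IsClosed {x}) (η : HH X (EtCoh.const X M) m)
      (_ : ∀ (s : Spec (CommRingCat.of k) ⟶ O.toScheme) (_ : s ≫ O.ι ≫ p = 𝟙 _),
        ∃ (y : X ⟶ Spec (CommRingCat.of k)) (_ : y = p) (D : Dat y d),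
          Simple D ((s ≫ O.ι) default) ∧ clD D M κ = η), clD D M κ = η := by
    intro y e D x hD O hx hcl η hη
    obtain ⟨s, hs, hsx⟩ := exists_pt (p := p) O x hx hcl
    obtain ⟨y', e', D', hD', hη'⟩ := hη s hs
    rw [hsx] at hD'
    rw [← hη']
    exact clD_eq_of_same hB hcons e e' D D' x hD hD'
  rw [cmp e₁ D₁ x₁ h₁ O₁ hx₁ c₁ η₁ hη₁, cmp e₂ D₂ x₂ h₂ O₂ hx₂ c₂ η₂ hη₂]
  obtain ⟨s, hs, hsx⟩ := exists_pt (p := p) O₁ x₃ hx₃ c₃
  obtain ⟨y', e', D', hD', hη'⟩ := hη₁ s hs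
  rw [hsx] at hD'
  rw [← hη']
  exact cmp e' D' x₃ hD' O₂ hx₃' c₃ η₂ hη₂

end Same

end

end Groth.Agent.Sga4h.H556.SimpleDat
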