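import Groth.Agent.Sga4B.DiagPkg
import Groth.Agent.EtpbcB.HRel

/-!
# Cohomology with supports as `Ext` from `ℤ/ℤ[O]`: definitions and functoriality

For an open `O` of `Y`, `ZQ O = coker (ℤ[O] ⟶ ℤ_Y)` and `HZ O F m = Ext^m(ZQ O, F) = H^m_{Y∖O}(Y, F)`.
* `bq g h : ZQ O' ⟶ g^* (ZQ O)` for `g : X ⟶ Y` and `O' ≤ g ⁻¹ᵁ O`;
* `pl g h α m : HZ O F m →+ HZ O' F' m` (pull back), `α : g^* F ⟶ F'`, with `pl_pl`;
* `fg O F m : HZ O F m →+ HH Y F m` (forget supports), with `fg_pl`.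
* constant coefficients: `HS M O m`, `plc`, `fgc`.
-/

set_option autoImplicit false
universe u
open CategoryTheory CategoryTheory.Limits AlgebraicGeometry Opposite Abelian
open Groth.Agent.Sga4B.DualShape Groth.Agent.EtpbcA Groth.Agent.Sga4B.DiagB
open scoped Groth.Agent.Etcore.EtInst
open Groth.Agent.Etcore.EtInst

namespace Groth.Agent.Sga4h.H556.Supp

open Groth.Agent.Etcore.PullCoh (eta cst theta th th_nat pullConst_comp pullConst_unit map_res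
  res_comp eta_res eta_map const_hom_ext toTop_ext map_comp_app res_id)
open Groth.Agent.Sga4B Groth.Agent.Etcore

noncomputable section

variable {X Y Z : Scheme.{u}}

/-! ### The sheaf `ZQ O` -/

/-- `ℤ[O] ⟶ ℤ_Y`. -/
def zin (O : Y.Opens) : ZS (opE O) ⟶ EtCoh.const Y ℤ :=
  ZSmap (DualShape.toTop (opE O)) ≫ (JFComp.topIso ℤ Y).hom

/-- `coker (ℤ[O] ⟶ ℤ_Y)`. -/
def ZQ (O : Y.Opens) : EtCoh.Ab Y := cokernel (zin O)

/-- The projection `ℤ_Y ⟶ ZQ O`. -/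
def zπ (O : Y.Opens) : EtCoh.const Y ℤ ⟶ ZQ O := cokernel.π (zin O)

instance (O : Y.Opens) : Epi (zπ O) := inferInstanceAs (Epi (coequalizer.π _ _))

instance (O : Y.Opens) : Mono (zin O) := by
  have i1 : Mono (DiagPkg.str (opE O)) := inferInstanceAs (Mono O.ι)
  have i2 : Mono (DiagPkg.str (EtCoh.top Y)) := inferInstanceAs (Mono (𝟙 Y))
  have := DiagPkg.mono_JF ℤ (DualShape.toTop (opE O))
  exact mono_comp _ _

theorem zin_zπ (O : Y.Opens) : zin O ≫ zπ O = 0 := cokernel.condition _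

theorem zin_univ (O : Y.Opens) (m : ℤ) :
    (zin O).hom.app (op (opE O)) (Jshriek.univ (opE O) ℤ m) =
      (EtCoh.const Y ℤ).obj.map (DualShape.toTop (opE O)).op (cst Y ℤ ⟨m⟩) := by
  change (JFComp.topIso ℤ Y).hom.hom.app _ ((jMap ℤ (DualShape.toTop (opE O))).hom.app _
    (Jshriek.univ (opE O) ℤ m)) = _
  rw [jMap_univ]
  refine (map_res (JFComp.topIso ℤ Y).hom (DualShape.toTop (opE O)) _).trans ?_
  exact congrArg _ (JFComp.topIso_hom_univ ℤ m)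

/-- The section of `F` given by `φ : ℤ_Y ⟶ F`. -/
def one {F : EtCoh.Ab Y} (φ : EtCoh.const Y ℤ ⟶ F) : EtCoh.sect F (EtCoh.top Y) :=
  φ.hom.app (op (EtCoh.top Y)) (cst Y ℤ ⟨1⟩)

theorem cst_int (m : ℤ) : cst Y ℤ ⟨m⟩ = m • cst Y ℤ ⟨1⟩ := by
  have h : (⟨m⟩ : ULift.{u + 1} ℤ) = m • (⟨1⟩ : ULift.{u + 1} ℤ) := by
    ext
    simp
  rw [h]
  exact map_zsmul (((EtCore.constAdj Y).unit.app (AddCommGrpCat.of (ULift.{u + 1} ℤ))).hom) m _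

theorem one_ext {F : EtCoh.Ab Y} {φ ψ : EtCoh.const Y ℤ ⟶ F} (h : one φ = one ψ) : φ = ψ := by
  refine const_hom_ext _ _ (fun m => ?_)
  obtain ⟨m⟩ := m
  rw [cst_int]
  exact (map_zsmul (φ.hom.app (op (EtCoh.top Y))).hom m _).trans
    ((congrArg (fun t => m • t) h).trans (map_zsmul (ψ.hom.app (op (EtCoh.top Y))).hom m _).symm)

theorem one_comp {F G : EtCoh.Ab Y} (φ : EtCoh.const Y ℤ ⟶ F) (a : F ⟶ G) :
    one (φ ≫ a) = a.hom.app (op (EtCoh.top Y)) (one φ) := rfl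

theorem zin_comp_eq_zero_iff (O : Y.Opens) {F : EtCoh.Ab Y} (φ : EtCoh.const Y ℤ ⟶ F) :
    zin O ≫ φ = 0 ↔ F.obj.map (DualShape.toTop (opE O)).op (one φ) = 0 := by
  have key : ∀ m : ℤ, (zin O ≫ φ).hom.app (op (opE O)) (Jshriek.univ (opE O) ℤ m) =
      F.obj.map (DualShape.toTop (opE O)).op (φ.hom.app (op (EtCoh.top Y)) (cst Y ℤ ⟨m⟩)) := by
    intro m
    rw [map_comp_app, zin_univ, map_res]
  constructor
  · intro h
    rw [one, ← key, h]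
    rfl
  · intro h
    refine Jshriek.hom_ext _ (fun m => ?_)
    refine (key m).trans ?_
    rw [cst_int]
    have h1 : φ.hom.app (op (EtCoh.top Y)) (m • cst Y ℤ ⟨1⟩) = m • one φ :=
      map_zsmul (φ.hom.app (op (EtCoh.top Y))).hom m _
    rw [h1]
    have h2 : F.obj.map (DualShape.toTop (opE O)).op (m • one φ) =
        m • F.obj.map (DualShape.toTop (opE O)).op (one φ) :=
      map_zsmul (F.obj.map (DualShape.toTop (opE O)).op).hom m _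
    rw [h2, h, smul_zero]
    rfl

theorem res_one_zπ (O : Y.Opens) :
    (ZQ O).obj.map (DualShape.toTop (opE O)).op (one (zπ O)) = 0 :=
  (zin_comp_eq_zero_iff O (zπ O)).1 (zin_zπ O)

/-- Morphisms out of `ZQ O` are sections of `F` which vanish on `O`. -/
def desc (O : Y.Opens) {F : EtCoh.Ab Y} (φ : EtCoh.const Y ℤ ⟶ F)
    (h : F.obj.map (DualShape.toTop (opE O)).op (one φ) = 0) : ZQ O ⟶ F :=
  cokernel.desc _ φ ((zin_comp_eq_zero_iff O φ).2 h)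

theorem zπ_desc (O : Y.Opens) {F : EtCoh.Ab Y} (φ : EtCoh.const Y ℤ ⟶ F)
    (h : F.obj.map (DualShape.toTop (opE O)).op (one φ) = 0) : zπ O ≫ desc O φ h = φ :=
  cokernel.π_desc _ _ _

/-! ### Functoriality -/

/-- `O' ⟶ g⁻¹ O` in the étale site of `X`. -/
def resE (g : X ⟶ Y) {O : Y.Opens} {O' : X.Opens} (h : O' ≤ g ⁻¹ᵁ O) :
    opE O' ⟶ (EtCoh.bc g).obj (opE O) :=
  MorphismProperty.Over.homMk
    (pullback.lift (g.resLE O O' h) O'.ι (Scheme.Hom.resLE_comp_ι g h))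
    (pullback.lift_snd _ _ _) trivial

theorem pullConst_inv_res (g : X ⟶ Y) (m : ULift.{u + 1} ℤ) :
    (EtCore.pullConst g ℤ).inv.hom.app _ ((EtCoh.const X ℤ).obj.map
      (DualShape.toTop ((EtCoh.bc g).obj (EtCoh.top Y))).op (cst X ℤ m)) =
      eta g _ _ (cst Y ℤ m) := by
  have h := pullConst_unit g ℤ m
  have h2 := congrArg (fun t => (EtCore.pullConst g ℤ).inv.hom.app _ t) h
  refine Eq.trans ?_ (h2.symm.trans ?_)
  · rw [toTop_ext (DualShape.toTop ((EtCoh.bc g).obj (EtCoh.top Y))) (PullCoh.toTop _)]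
  · change ((EtCore.pullConst g ℤ).hom ≫ (EtCore.pullConst g ℤ).inv).hom.app _ _ = _
    rw [Iso.hom_inv_id]
    rfl

theorem bq_cond (g : X ⟶ Y) {O : Y.Opens} {O' : X.Opens} (h : O' ≤ g ⁻¹ᵁ O) :
    ((EtCoh.pull g).obj (ZQ O)).obj.map (DualShape.toTop (opE O')).op
      (one ((EtCore.pullConst g ℤ).inv ≫ (EtCoh.pull g).map (zπ O))) = 0 := by
  have e1 : DualShape.toTop (opE O') = (resE g h ≫ (EtCoh.bc g).map (DualShape.toTop (opE O))) ≫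
    DualShape.toTop ((EtCoh.bc g).obj (EtCoh.top Y)) := toTop_ext _ _
  rw [e1, res_comp, one, ← map_res, map_comp_app, pullConst_inv_res, eta_map, res_comp, ← eta_res]
  have h0 := res_one_zπ O
  rw [one] at h0
  rw [h0]
  have h1 : eta g (ZQ O) (opE O) 0 = 0 :=
    map_zero (((EtCoh.pullPushAdj g).unit.app (ZQ O)).hom.app (op (opE O))).hom
  rw [h1]
  exact map_zero (((EtCoh.pull g).obj (ZQ O)).obj.map (resE g h).op).hom

/-- `ZQ O' ⟶ g^* (ZQ O)` for `O' ≤ g⁻¹ O`. -/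
def bq (g : X ⟶ Y) {O : Y.Opens} {O' : X.Opens} (h : O' ≤ g ⁻¹ᵁ O) :
    ZQ O' ⟶ (EtCoh.pull g).obj (ZQ O) :=
  desc O' ((EtCore.pullConst g ℤ).inv ≫ (EtCoh.pull g).map (zπ O)) (bq_cond g h)

theorem zπ_bq (g : X ⟶ Y) {O : Y.Opens} {O' : X.Opens} (h : O' ≤ g ⁻¹ᵁ O) :
    zπ O' ≫ bq g h = (EtCore.pullConst g ℤ).inv ≫ (EtCoh.pull g).map (zπ O) :=
  zπ_desc _ _ _

theorem bq_bq (f : X ⟶ Y) (g : Y ⟶ Z) (k : X ⟶ Z) (w : f ≫ g = k) {O : Z.Opens} {O' : Y.Opens}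
    {O'' : X.Opens} (h : O' ≤ g ⁻¹ᵁ O) (h' : O'' ≤ f ⁻¹ᵁ O') (h'' : O'' ≤ k ⁻¹ᵁ O) :
    bq f h' ≫ (EtCoh.pull f).map (bq g h) ≫ (theta f g k w).hom.app (ZQ O) = bq k h'' := by
  rw [← cancel_epi (zπ O''), ← Category.assoc, zπ_bq, zπ_bq, Category.assoc,
    ← Functor.map_comp_assoc, zπ_bq, Functor.map_comp_assoc]
  have h1 := th_nat f g k w (zπ O)
  change (EtCoh.pull f).map ((EtCoh.pull g).map (zπ O)) ≫ (theta f g k w).hom.app (ZQ O) =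
    (theta f g k w).hom.app _ ≫ (EtCoh.pull k).map (zπ O) at h1
  rw [h1, ← EtpbcB.HRel.pc_comp f g k w]
  simp only [Category.assoc]

/-! ### Cohomology with supports -/

/-- `H^m_{Y∖O}(Y, F)`. -/
abbrev HZ (O : Y.Opens) (F : EtCoh.Ab Y) (m : ℕ) : Type (u + 1) := Ext.{u + 1} (ZQ O) F m

/-- Functoriality in the sheaf. -/
def hzmap (O : Y.Opens) {F G : EtCoh.Ab Y} (α : F ⟶ G) (m : ℕ) : HZ O F m →+ HZ O G m :=
  (Ext.mk₀ α).postcomp _ (add_zero m)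

theorem hzmap_apply (O : Y.Opens) {F G : EtCoh.Ab Y} (α : F ⟶ G) (m : ℕ) (x : HZ O F m) :
    hzmap O α m x = x.comp (Ext.mk₀ α) (add_zero m) := rfl

/-- Forget supports. -/
def fg (O : Y.Opens) (F : EtCoh.Ab Y) (m : ℕ) : HZ O F m →+ HH Y F m :=
  (Ext.mk₀ (zπ O)).precomp _ (zero_add m)

theorem fg_apply (O : Y.Opens) (F : EtCoh.Ab Y) (m : ℕ) (x : HZ O F m) :
    fg O F m x = (Ext.mk₀ (zπ O)).comp x (zero_add m) := rfl

/-- Pull back along `g : X ⟶ Y`, `O' ≤ g⁻¹ O`, `α : g^* F ⟶ F'`. -/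
def pl (g : X ⟶ Y) {O : Y.Opens} {O' : X.Opens} (h : O' ≤ g ⁻¹ᵁ O) {F : EtCoh.Ab Y}
    {F' : EtCoh.Ab X} (α : (EtCoh.pull g).obj F ⟶ F') (m : ℕ) : HZ O F m →+ HZ O' F' m :=
  (hzmap O' α m).comp (ExtCmp.cmp (EtCoh.pull g) (bq g h) F m)

theorem pl_apply (g : X ⟶ Y) {O : Y.Opens} {O' : X.Opens} (h : O' ≤ g ⁻¹ᵁ O) {F : EtCoh.Ab Y}
    {F' : EtCoh.Ab X} (α : (EtCoh.pull g).obj F ⟶ F') (m : ℕ) (x : HZ O F m) :
    pl g h α m x = (ExtCmp.cmp (EtCoh.pull g) (bq g h) F m x).comp (Ext.mk₀ α) (add_zero m) := rfl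

theorem pl_pl (f : X ⟶ Y) (g : Y ⟶ Z) (k : X ⟶ Z) (w : f ≫ g = k) {O : Z.Opens} {O' : Y.Opens}
    {O'' : X.Opens} (h : O' ≤ g ⁻¹ᵁ O) (h' : O'' ≤ f ⁻¹ᵁ O') (h'' : O'' ≤ k ⁻¹ᵁ O)
    {F : EtCoh.Ab Z} {F' : EtCoh.Ab Y} {F'' : EtCoh.Ab X} (α : (EtCoh.pull g).obj F ⟶ F')
    (β : (EtCoh.pull f).obj F' ⟶ F'') (γ : (EtCoh.pull k).obj F ⟶ F'')
    (hc : (EtCoh.pull f).map α ≫ β = (theta f g k w).hom.app F ≫ γ) (m : ℕ) (x : HZ O F m) :
    pl f h' β m (pl g h α m x) = pl k h'' γ m x := by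
  rw [pl_apply, pl_apply, pl_apply]
  exact EtpbcB.HRel.cmp_cmp_rel (EtCoh.pull g) (EtCoh.pull f) (EtCoh.pull k) (theta f g k w).hom
    _ _ _ (bq_bq f g k w h h' h'') α β γ hc m x

/-- Compatibility of `pl` and `fg`. -/
theorem fg_pl (g : X ⟶ Y) {O : Y.Opens} {O' : X.Opens} (h : O' ≤ g ⁻¹ᵁ O) {F : EtCoh.Ab Y}
    {F' : EtCoh.Ab X} (α : (EtCoh.pull g).obj F ⟶ F') (m : ℕ) (x : HZ O F m) :
    fg O' F' m (pl g h α m x) = HHmap α m (HpullCalc.hp g F m (fg O F m x)) := by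
  rw [fg_apply, fg_apply, pl_apply, HHmap_apply, HpullCalc.hp_apply, ExtCmp.cmp_apply,
    Ext.mapExactFunctor_comp, Ext.mapExactFunctor_mk₀, ← Ext.comp_assoc_of_third_deg_zero,
    Ext.mk₀_comp_mk₀_assoc, Ext.mk₀_comp_mk₀_assoc, zπ_bq]

/-- Naturality in the sheaf. -/
theorem pl_hzmap (g : X ⟶ Y) {O : Y.Opens} {O' : X.Opens} (h : O' ≤ g ⁻¹ᵁ O) {F G : EtCoh.Ab Y}
    {F' G' : EtCoh.Ab X} (α : (EtCoh.pull g).obj F ⟶ F') (β : (EtCoh.pull g).obj G ⟶ G')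
    (a : F ⟶ G) (a' : F' ⟶ G') (hc : (EtCoh.pull g).map a ≫ β = α ≫ a') (m : ℕ) (x : HZ O F m) :
    pl g h β m (hzmap O a m x) = hzmap O' a' m (pl g h α m x) := by
  rw [pl_apply, hzmap_apply, hzmap_apply, pl_apply, ExtCmp.cmp_mk₀,
    Ext.comp_assoc_of_third_deg_zero, Ext.comp_assoc_of_third_deg_zero, Ext.mk₀_comp_mk₀,
    Ext.mk₀_comp_mk₀, hc]

/-! ### Constant coefficients -/

section Const

variable (M : Type) [AddCommGroup M]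

/-- `H^m_{Y∖O}(Y, M)`. -/
abbrev HS {Y : Scheme.{u}} (O : Y.Opens) (m : ℕ) : Type (u + 1) := HZ O (EtCoh.const Y M) m

/-- Pull back, constant coefficients. -/
def plc (g : X ⟶ Y) {O : Y.Opens} {O' : X.Opens} (h : O' ≤ g ⁻¹ᵁ O) (m : ℕ) :
    HS M O m →+ HS M O' m := pl g h (EtCore.pullConst g M).hom m

theorem plc_plc (f : X ⟶ Y) (g : Y ⟶ Z) (k : X ⟶ Z) (w : f ≫ g = k) {O : Z.Opens} {O' : Y.Opens}
    {O'' : X.Opens} (h : O' ≤ g ⁻¹ᵁ O) (h' : O'' ≤ f ⁻¹ᵁ O') (h'' : O'' ≤ k ⁻¹ᵁ O) (m : ℕ)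
    (x : HS M O m) : plc M f h' m (plc M g h m x) = plc M k h'' m x :=
  pl_pl f g k w h h' h'' _ _ _ (pullConst_comp f g k w M) m x

/-- Pull back on cohomology, constant coefficients. -/
def hc (g : X ⟶ Y) (m : ℕ) : HH Y (EtCoh.const Y M) m →+ HH X (EtCoh.const X M) m :=
  (HHmap (EtCore.pullConst g M).hom m).comp
    (ExtCmp.cmp (EtCoh.pull g) (EtCore.pullConst g ℤ).inv (EtCoh.const Y M) m)

theorem hc_apply' (g : X ⟶ Y) (m : ℕ) (x : HH Y (EtCoh.const Y M) m) :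
    hc M g m x = (ExtCmp.cmp (EtCoh.pull g) (EtCore.pullConst g ℤ).inv (EtCoh.const Y M) m x).comp
      (Ext.mk₀ (EtCore.pullConst g M).hom) (add_zero m) := rfl

theorem hc_apply (g : X ⟶ Y) (m : ℕ) (x : HH Y (EtCoh.const Y M) m) :
    hc M g m x = HHmap (EtCore.pullConst g M).hom m (HpullCalc.hp g (EtCoh.const Y M) m x) := by
  rw [hc_apply', ExtCmp.cmp_apply, HHmap_apply, HpullCalc.hp_apply]

theorem hc_hc (f : X ⟶ Y) (g : Y ⟶ Z) (k : X ⟶ Z) (w : f ≫ g = k) (m : ℕ)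
    (x : HH Z (EtCoh.const Z M) m) : hc M f m (hc M g m x) = hc M k m x := by
  rw [hc_apply', hc_apply', hc_apply']
  exact EtpbcB.HRel.cmp_cmp_rel (EtCoh.pull g) (EtCoh.pull f) (EtCoh.pull k) (theta f g k w).hom
    _ _ _ (EtpbcB.HRel.pc_comp f g k w) _ _ _ (pullConst_comp f g k w M) m x

theorem fg_plc (g : X ⟶ Y) {O : Y.Opens} {O' : X.Opens} (h : O' ≤ g ⁻¹ᵁ O) (m : ℕ)
    (x : HS M O m) : fg O' _ m (plc M g h m x) = hc M g m (fg O _ m x) := by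
  rw [hc_apply]
  exact fg_pl g h _ m x

end Const

end

end Groth.Agent.Sga4h.H556.Supp
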